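import Cfsg.Agent.H24.ExtraspecialIso
import Mathlib

/-!
Extraspecial 2-groups: the number of elements of square one.
-/

namespace Cfsg.Agent.H91.ExtraspecialCount

open Subgroup
open scoped commutatorElement

universe u v

/-- The number of elements of square one. -/
noncomputable def cnt (G : Type*) [Monoid G] : ℕ := Nat.card {x : G // x ^ 2 = 1}

theorem cnt_congr {G H : Type*} [Monoid G] [Monoid H] (e : G ≃* H) : cnt G = cnt H :=
  Nat.card_congr (e.toEquiv.subtypeEquiv fun x => by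
    rw [MulEquiv.toEquiv_eq_coe, EquivLike.coe_coe, ← map_pow, map_eq_one_iff e e.injective])

variable {G : Type u} [Group G] [Finite G]

/-- A pair of the dihedral kind generates a group with six elements of square one. -/
theorem cnt_dihedral_pair (h : Cfsg.IsExtraspecial 2 G) {a b : G} (n : ⁅a, b⁆ ≠ 1)
    (p : a ^ 2 = 1) (q : b ^ 2 = 1) : cnt (closure ({a, b} : Set G)) = 6 := by
  have htop : closure ({DihedralGroup.sr 0, DihedralGroup.sr 1} : Set (DihedralGroup 4)) = ⊤ := by
    refine (Subgroup.eq_top_iff' _).2 fun g => ?_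
    have ha := subset_closure (k := ({DihedralGroup.sr 0, DihedralGroup.sr 1} : Set (DihedralGroup 4)))
      (Set.mem_insert _ _)
    have hb := subset_closure (k := ({DihedralGroup.sr 0, DihedralGroup.sr 1} : Set (DihedralGroup 4)))
      (Set.mem_insert_of_mem _ rfl)
    have hr := pow_mem (mul_mem ha hb)
    rcases g with i | i
    · rw [show DihedralGroup.r i = (DihedralGroup.sr (0 : ZMod 4) * DihedralGroup.sr 1) ^ i.val by
        revert i; decide]
      exact hr _
    · rw [show DihedralGroup.sr i = DihedralGroup.sr (0 : ZMod 4) *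
        (DihedralGroup.sr (0 : ZMod 4) * DihedralGroup.sr 1) ^ i.val by revert i; decide]
      exact mul_mem ha (hr _)
  obtain ⟨f, -⟩ := H24.exists_pair_iso (p := 2) (a₁ := a) (b₁ := b)
    (a₂ := DihedralGroup.sr (0 : ZMod 4)) (b₂ := DihedralGroup.sr 1)
    (H24.espec_comm_mem h a b) (by rw [Subgroup.mem_center_iff]; decide)
    (H24.espec_comm_pow h a b) (by decide) (H24.espec_split h n).2.1
    (by rw [htop, card_top, DihedralGroup.nat_card]; rfl) 0 0 (by simp [p]) (by decide)
    (by simp [q]) (by decide)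
  rw [cnt_congr (f.trans ((MulEquiv.subgroupCongr htop).trans Subgroup.topEquiv)), cnt,
    Nat.card_eq_fintype_card]
  decide

/-- A pair of the quaternion kind generates a group with two elements of square one. -/
theorem cnt_quaternion_pair (h : Cfsg.IsExtraspecial 2 G) {a b : G} (n : ⁅a, b⁆ ≠ 1)
    (p : a ^ 2 = ⁅a, b⁆) (q : b ^ 2 = ⁅a, b⁆) : cnt (closure ({a, b} : Set G)) = 2 := by
  have htop : closure ({QuaternionGroup.a 1, QuaternionGroup.xa 0} : Set (QuaternionGroup 2)) = ⊤ := by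
    refine (Subgroup.eq_top_iff' _).2 fun g => ?_
    have ha := subset_closure (k := ({QuaternionGroup.a 1, QuaternionGroup.xa 0} : Set (QuaternionGroup 2)))
      (Set.mem_insert _ _)
    have hb := subset_closure (k := ({QuaternionGroup.a 1, QuaternionGroup.xa 0} : Set (QuaternionGroup 2)))
      (Set.mem_insert_of_mem _ rfl)
    have hr := pow_mem ha
    rcases g with i | i
    · rw [show QuaternionGroup.a i = (QuaternionGroup.a (1 : ZMod (2 * 2))) ^ i.val by
        revert i; decide]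
      exact hr _
    · rw [show QuaternionGroup.xa i = QuaternionGroup.xa (0 : ZMod (2 * 2)) *
        (QuaternionGroup.a (1 : ZMod (2 * 2))) ^ i.val by revert i; decide]
      exact mul_mem hb (hr _)
  obtain ⟨f, -⟩ := H24.exists_pair_iso (p := 2) (a₁ := a) (b₁ := b)
    (a₂ := QuaternionGroup.a (1 : ZMod (2 * 2))) (b₂ := QuaternionGroup.xa 0)
    (H24.espec_comm_mem h a b) (by rw [Subgroup.mem_center_iff]; decide)
    (H24.espec_comm_pow h a b) (by decide) (H24.espec_split h n).2.1
    (by rw [htop, card_top, Nat.card_eq_fintype_card, QuaternionGroup.card]; rfl) 1 1 (by simp [p])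
    (by decide) (by simp [q]) (by decide)
  rw [cnt_congr (f.trans ((MulEquiv.subgroupCongr htop).trans Subgroup.topEquiv)), cnt,
    Nat.card_eq_fintype_card]
  decide

theorem card_preimage {A B : Type*} [Group A] [Group B] [Finite A] (φ : A →* B)
    (hφ : Function.Surjective φ) (S : B → Prop) :
    Nat.card {x : A // S (φ x)} = Nat.card {y : B // S y} * Nat.card φ.ker := by
  rw [← Nat.card_prod]
  let s := Function.surjInv hφ
  have hs : ∀ y, φ (s y) = y := Function.surjInv_eq hφ
  exact Nat.card_congr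
    { toFun := fun x => (⟨φ x, x.2⟩, ⟨(s (φ x))⁻¹ * x, by rw [MonoidHom.mem_ker, map_mul, map_inv, hs, inv_mul_cancel]⟩)
      invFun := fun y => ⟨s y.1 * y.2, by
        rw [map_mul, hs, MonoidHom.mem_ker.1 y.2.2, mul_one]; exact y.1.2⟩
      left_inv := fun x => Subtype.ext (by simp)
      right_inv := fun y => by
        have e : φ (s y.1 * y.2) = y.1 := by rw [map_mul, hs, MonoidHom.mem_ker.1 y.2.2, mul_one]
        refine Prod.ext (Subtype.ext e) (Subtype.ext ?_)
        simp [e] }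

/-- Splitting off a dihedral factor. -/
theorem cnt_split (h : Cfsg.IsExtraspecial 2 G) {a b : G} (n : ⁅a, b⁆ ≠ 1)
    (p : a ^ 2 = 1) (q : b ^ 2 = 1) :
    cnt G = 2 * cnt (centralizer (closure ({a, b} : Set G) : Set G)) +
      Nat.card (centralizer (closure ({a, b} : Set G) : Set G)) := by
  classical
  have h6 := cnt_dihedral_pair h n p q
  obtain ⟨hZ, hA, hsup, hinf, hc, -⟩ := H24.espec_split h n
  set A := closure ({a, b} : Set G)
  set C := centralizer (A : Set G) with hC
  let φ : A × C →* G := A.subtype.noncommCoprod C.subtype fun x y => y.2 x x.2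
  have hv : ∀ x, φ x = (x.1 : G) * x.2 := fun x => rfl
  have hs : Function.Surjective φ := by
    rw [← MonoidHom.range_eq_top, eq_top_iff, ← hsup]
    exact sup_le (fun x hx => ⟨(⟨x, hx⟩, 1), by simp [hv]⟩) (fun x hx => ⟨(1, ⟨x, hx⟩), by simp [hv]⟩)
  have hker : Nat.card φ.ker = 2 := by
    have h1 := φ.ker.card_mul_index
    rw [Subgroup.index_ker, MonoidHom.range_eq_top.2 hs, card_top, Nat.card_prod, hA, ← hc] at h1
    have h2 : Nat.card φ.ker * (2 ^ 2 * Nat.card C) = 2 * (2 ^ 2 * Nat.card C) := by rw [h1]; ring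
    exact Nat.eq_of_mul_eq_mul_right (Nat.mul_pos (by norm_num) Nat.card_pos) h2
  have hzp : zpowers ⁅a, b⁆ = center G :=
    H24.zpowers_eq_of_card_prime h.2 (H24.espec_comm_mem h a b) n
  have hz2 : ⁅a, b⁆ ^ 2 = 1 := H24.espec_comm_pow h a b
  have hsq : ∀ x : G, x ^ 2 = 1 ∨ x ^ 2 = ⁅a, b⁆ := by
    intro x
    obtain ⟨k, hk⟩ := mem_zpowers_iff.mp (hzp ▸ H24.espec_pow_mem h x : x ^ 2 ∈ zpowers ⁅a, b⁆)
    rcases Int.even_or_odd k with ⟨r, rfl⟩ | ⟨r, rfl⟩
    · left; rw [← hk, ← two_mul, zpow_mul, zpow_ofNat, hz2, one_zpow]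
    · right; rw [← hk, zpow_add, zpow_mul, zpow_ofNat, hz2, one_zpow, one_mul, zpow_one]
  have hiff : ∀ x : A × C, φ x ^ 2 = 1 ↔
      ((x.1 ^ 2 = 1 ∧ x.2 ^ 2 = 1) ∨ (¬ x.1 ^ 2 = 1 ∧ ¬ x.2 ^ 2 = 1)) := by
    intro x
    have e : φ x ^ 2 = (x.1 : G) ^ 2 * (x.2 : G) ^ 2 := by
      rw [hv]; exact Commute.mul_pow (x.2.2 x.1 x.1.2) 2
    simp only [Subtype.ext_iff, Subgroup.coe_pow, Subgroup.coe_one, e]
    rcases hsq x.1 with h1 | h1 <;> rcases hsq x.2 with h2 | h2 <;>
      simp [h1, h2, n, ← pow_two, hz2]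
  have hA' : Nat.card {x : A // ¬ x ^ 2 = 1} + cnt A = 8 := by
    rw [cnt, Nat.add_comm, ← Nat.card_sum, Nat.card_congr (Equiv.sumCompl _), hA]; rfl
  have hC' : Nat.card {x : C // ¬ x ^ 2 = 1} + cnt C = Nat.card C := by
    rw [cnt, Nat.add_comm, ← Nat.card_sum, Nat.card_congr (Equiv.sumCompl _)]
  have hcount := card_preimage φ hs (fun y => y ^ 2 = 1)
  have hsplit : Nat.card {x : A × C // φ x ^ 2 = 1} = cnt A * cnt C +
      Nat.card {x : A // ¬ x ^ 2 = 1} * Nat.card {x : C // ¬ x ^ 2 = 1} := by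
    rw [cnt, cnt, ← Nat.card_prod, ← Nat.card_prod, ← Nat.card_sum]
    exact Nat.card_congr
      { toFun := fun x => if h : x.1.1 ^ 2 = 1 then
            Sum.inl (⟨x.1.1, h⟩, ⟨x.1.2, (((hiff _).1 x.2).resolve_right fun e => e.1 h).2⟩)
          else Sum.inr (⟨x.1.1, h⟩, ⟨x.1.2, (((hiff _).1 x.2).resolve_left fun e => h e.1).2⟩)
        invFun := Sum.elim
          (fun y => ⟨(y.1, y.2), (hiff _).2 (Or.inl ⟨y.1.2, y.2.2⟩)⟩)
          (fun y => ⟨(y.1, y.2), (hiff _).2 (Or.inr ⟨y.1.2, y.2.2⟩)⟩)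
        left_inv := fun x => by
          by_cases h : x.1.1 ^ 2 = 1 <;> simp [h]
        right_inv := fun y => by
          rcases y with y | y
          · simp [y.1.2]
          · simp [y.1.2] }
  rw [hsplit, hker, h6, show Nat.card {x : A // ¬ x ^ 2 = 1} = 2 by omega] at hcount
  simp only [cnt] at *
  omega

omit [Finite G] in
theorem arith (m : ℕ) (hm : 1 ≤ m) (s : ℕ) (hs : s = 2 ^ (2 * m) + 2 ^ m ∨ s = 2 ^ (2 * m) - 2 ^ m) :
    2 * s + 2 ^ (2 * m + 1) = 2 ^ (2 * (m + 1)) + 2 ^ (m + 1) ∨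
      2 * s + 2 ^ (2 * m + 1) = 2 ^ (2 * (m + 1)) - 2 ^ (m + 1) := by
  have h1 : 2 ^ m ≤ 2 ^ (2 * m) := Nat.pow_le_pow_right two_pos (by omega)
  rw [show 2 * (m + 1) = 2 * m + 1 + 1 by ring, pow_succ _ (2 * m + 1), pow_succ _ (2 * m), pow_succ _ m]
  omega

theorem cnt_cases : ∀ (G : Type u) [Group G] [Finite G], Cfsg.IsExtraspecial 2 G →
    ∃ m : ℕ, 1 ≤ m ∧ Nat.card G = 2 ^ (2 * m + 1) ∧
      (cnt G = 2 ^ (2 * m) + 2 ^ m ∨ cnt G = 2 ^ (2 * m) - 2 ^ m) := by
  intro G
  induction hn : Nat.card G using Nat.strong_induction_on generalizing G with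
  | _ n ih =>
    intro _ _ h
    subst hn
    obtain ⟨m, hm, hcard⟩ := H24.espec_card h
    refine ⟨m, hm, hcard, ?_⟩
    rcases Nat.lt_or_ge m 2 with hm2 | hm2
    · obtain rfl : m = 1 := by omega
      obtain ⟨a, b, n, hab⟩ := H24.extraspecial_eight_cases h
      have htop : closure ({a, b} : Set G) = ⊤ :=
        Subgroup.eq_top_of_le_card _ (by rw [(H24.espec_split h n).2.1, hcard])
      rw [← cnt_congr ((MulEquiv.subgroupCongr htop).trans Subgroup.topEquiv)]
      rcases hab with ⟨p, q⟩ | ⟨p, q⟩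
      · exact Or.inl ((cnt_dihedral_pair h n p q).trans (by norm_num))
      · exact Or.inr ((cnt_quaternion_pair h n p q).trans (by norm_num))
    · have h32 : 32 ≤ Nat.card G := by
        rw [hcard, show (32 : ℕ) = 2 ^ 5 from rfl]
        exact Nat.pow_le_pow_right two_pos (by omega)
      obtain ⟨a, b, n, p, q⟩ := H24.exists_dihedral_pair h h32
      obtain ⟨-, hA, -, -, hc, he⟩ := H24.espec_split h n
      have t : closure ({a, b} : Set G) ≠ ⊤ := fun h => by
        rw [h, card_top] at hA; omega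
      set C := centralizer (closure ({a, b} : Set G) : Set G)
      have hlt : Nat.card C < Nat.card G := by
        rw [← hc]; exact lt_mul_of_one_lt_left Nat.card_pos (by norm_num)
      obtain ⟨k, hk, hkc, hks⟩ := ih _ hlt C rfl (he t)
      have hmk : m = k + 1 := by
        have h1 := hc
        rw [hkc, hcard, ← pow_add] at h1
        have := Nat.pow_right_injective le_rfl h1
        omega
      subst hmk
      rw [cnt_split h n p q, hkc]
      exact arith k hk _ hks

theorem iso_of_cnt_eq : ∀ (G : Type u) (H : Type v) [Group G] [Group H] [Finite G] [Finite H],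
    Cfsg.IsExtraspecial 2 G → Cfsg.IsExtraspecial 2 H → Nat.card H = Nat.card G →
    cnt H = cnt G → Nonempty (G ≃* H) := by
  intro G
  induction hn : Nat.card G using Nat.strong_induction_on generalizing G with
  | _ n ih =>
    intro H _ _ _ _ h₁ h₂ hcard hcnt
    subst hn
    obtain ⟨m, hm, hm₁⟩ := H24.espec_card h₁
    rcases Nat.lt_or_ge m 2 with hm2 | hm2
    · obtain rfl : m = 1 := by omega
      obtain ⟨a, b, n, hab⟩ := H24.extraspecial_eight_cases h₁
      obtain ⟨c, d, n', hcd⟩ := H24.extraspecial_eight_cases h₂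
      have t₁ : closure ({a, b} : Set G) = ⊤ :=
        Subgroup.eq_top_of_le_card _ (by rw [(H24.espec_split h₁ n).2.1, hm₁])
      have t₂ : closure ({c, d} : Set H) = ⊤ :=
        Subgroup.eq_top_of_le_card _ (by rw [(H24.espec_split h₂ n').2.1, hcard, hm₁])
      rw [← cnt_congr ((MulEquiv.subgroupCongr t₁).trans Subgroup.topEquiv),
        ← cnt_congr ((MulEquiv.subgroupCongr t₂).trans Subgroup.topEquiv)] at hcnt
      rcases hab with hab | hab <;> rcases hcd with hcd | hcd
      · exact H24.iso_of_order_eight h₁ h₂ hcard.symm hm₁ n n' (.inl ⟨hab, hcd⟩)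
      · rw [cnt_dihedral_pair h₁ n hab.1 hab.2, cnt_quaternion_pair h₂ n' hcd.1 hcd.2] at hcnt
        omega
      · rw [cnt_quaternion_pair h₁ n hab.1 hab.2, cnt_dihedral_pair h₂ n' hcd.1 hcd.2] at hcnt
        omega
      · exact H24.iso_of_order_eight h₁ h₂ hcard.symm hm₁ n n' (.inr ⟨hab, hcd⟩)
    · have h32 : 32 ≤ Nat.card G := by
        rw [hm₁, show (32 : ℕ) = 2 ^ 5 from rfl]
        exact Nat.pow_le_pow_right two_pos (by omega)
      obtain ⟨a, b, n, p, q⟩ := H24.exists_dihedral_pair h₁ h32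
      obtain ⟨c, d, n', p', q'⟩ := H24.exists_dihedral_pair h₂ (hcard ▸ h32)
      obtain ⟨-, hA, -, -, hc₁, he₁⟩ := H24.espec_split h₁ n
      obtain ⟨-, hA', -, -, hc₂, he₂⟩ := H24.espec_split h₂ n'
      have t₁ : closure ({a, b} : Set G) ≠ ⊤ := fun h => by
        rw [h, card_top] at hA; omega
      have t₂ : closure ({c, d} : Set H) ≠ ⊤ := fun h => by
        rw [h, card_top, hcard] at hA'; omega
      have hlt : Nat.card (centralizer (closure ({a, b} : Set G) : Set G)) < Nat.card G := by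
        rw [← hc₁]; exact lt_mul_of_one_lt_left Nat.card_pos (by norm_num)
      have hC : Nat.card (centralizer (closure ({c, d} : Set H) : Set H)) =
          Nat.card (centralizer (closure ({a, b} : Set G) : Set G)) :=
        Nat.eq_of_mul_eq_mul_left (pow_pos two_pos 2) (hc₂.trans (hcard.trans hc₁.symm))
      rw [cnt_split h₁ n p q, cnt_split h₂ n' p' q', hC] at hcnt
      have := ih _ hlt _ rfl _ (he₁ t₁) (he₂ t₂) hC (by omega)
      exact H24.iso_of_dihedral_split h₁ h₂ hcard.symm n n' p q p' q' this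

end Cfsg.Agent.H91.ExtraspecialCount
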