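import Mathlib

/-!
A group acting fixed point freely on a commutative group `B` of invertible order, and compatibly on a
module without `B`-fixed vectors, makes that module free.
-/

set_option maxHeartbeats 800000

namespace Cfsg.Agent.H91.FreeModule

open Module

variable {k V H : Type*} [Field k] [AddCommGroup V] [Module k V] [Group H]

/-- Freeness: a subspace whose translates span and whose dimension is small enough. -/
def IsFree (σ : Representation k H V) : Prop :=
  ∃ W : Submodule k V, (⨆ h : H, W.map (σ h)) = ⊤ ∧ Nat.card H * finrank k W ≤ finrank k V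

theorem inv_apply (σ : Representation k H V) (h : H) (v : V) : σ h (σ h⁻¹ v) = v := by
  rw [← End.mul_apply, ← map_mul, mul_inv_cancel, map_one, End.one_apply]

theorem finrank_iSup_le_sum [FiniteDimensional k V] {ι : Type*} [Fintype ι] (U : ι → Submodule k V) :
    finrank k (⨆ i, U i : Submodule k V) ≤ ∑ i, finrank k (U i) := by
  classical
  have : ∀ s : Finset ι, finrank k (s.sup U : Submodule k V) ≤ ∑ i ∈ s, finrank k (U i) := by
    intro s
    induction s using Finset.induction with
    | empty => simp
    | insert a t hat ih =>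
      rw [Finset.sup_insert, Finset.sum_insert hat]
      exact (Submodule.finrank_add_le_finrank_add_finrank _ _).trans (Nat.add_le_add_left ih _)
  rw [← Finset.sup_univ_eq_iSup]
  exact this _

theorem card_group_le_or_isInternal [FiniteDimensional k V] [Finite H] {σ : Representation k H V}
    [DecidableEq H] (hW : IsFree σ) :
    ∃ W : Submodule k V, DirectSum.IsInternal (fun h : H => W.map (σ h)) := by
  obtain ⟨W, hsup, hdim⟩ := hW
  haveI := Fintype.ofFinite H
  refine ⟨W, ?_⟩
  let f := DirectSum.coeLinearMap (fun h : H => W.map (σ h))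
  have hsurj : Function.Surjective f := by
    rw [← LinearMap.range_eq_top]
    show LinearMap.range (DirectSum.coeLinearMap _) = ⊤
    rw [DirectSum.range_coeLinearMap, hsup]
  have hle : finrank k (DirectSum H fun h => (W.map (σ h) : Submodule k V)) ≤ finrank k V := by
    rw [Module.finrank_directSum]
    refine le_trans ?_ hdim
    calc ∑ h : H, finrank k (W.map (σ h) : Submodule k V) ≤ ∑ _h : H, finrank k W :=
          Finset.sum_le_sum fun h _ => Submodule.finrank_map_le _ _
      _ = Nat.card H * finrank k W := by rw [Finset.sum_const, Finset.card_univ, smul_eq_mul, Nat.card_eq_fintype_card]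
  exact ⟨(LinearMap.injective_iff_surjective_of_finrank_eq_finrank
    (le_antisymm hle (LinearMap.finrank_le_finrank_of_surjective hsurj))).2 hsurj, hsurj⟩

section Abelian

variable {B : Type*} [CommGroup B] [Finite B] [Finite H] [FiniteDimensional k V]

/-- The abelian case. -/
theorem isFree_of_abelian (σ : Representation k H V) (τ : Representation k B V) (α : H →* MulAut B)
    (hcompat : ∀ h b v, σ h (τ b v) = τ (α h b) (σ h v)) (hB : (Nat.card B : k) ≠ 0)
    (hfpf : ∀ h : H, h ≠ 1 → ∀ b, ∃ c, b = c⁻¹ * α h c)
    (hfix : ∀ v, (∀ b, τ b v = v) → v = 0) : IsFree σ := by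
  classical
  haveI : NeZero (Nat.card B : k) := ⟨hB⟩
  haveI := Fintype.ofFinite H
  let R := MonoidAlgebra k B
  let φ : R →ₐ[k] End k V := τ.asAlgebraHom
  let A : H →* (R ≃ₐ[k] R) := (MonoidAlgebra.domCongrAut (R := k) (A := k) (M := B)).comp α
  letI actR : MulSemiringAction H R :=
    { smul := fun h r => A h r
      one_smul := fun r => by show A 1 r = r; rw [map_one]; rfl
      mul_smul := fun g h r => by show A (g * h) r = A g (A h r); rw [map_mul]; rfl
      smul_zero := fun h => map_zero (A h)
      smul_add := fun h => map_add (A h)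
      smul_one := fun h => map_one (A h)
      smul_mul := fun h => map_mul (A h) }
  have hcompatR : ∀ (h : H) (r : R) (v : V), σ h (φ r v) = φ (h • r) (σ h v) := by
    intro h r
    induction r using MonoidAlgebra.induction_on with
    | of b =>
      intro v
      have e : h • (MonoidAlgebra.of k B b : R) = MonoidAlgebra.of k B (α h b) := by
        show (MonoidAlgebra.domCongr k k (α h)) (MonoidAlgebra.single b (1 : k)) = _
        rw [MonoidAlgebra.domCongr_single]; rfl
      rw [e, show φ (MonoidAlgebra.of k B b) = τ b from Representation.asAlgebraHom_of τ b,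
        show φ (MonoidAlgebra.of k B (α h b)) = τ (α h b) from Representation.asAlgebraHom_of τ _]
      exact hcompat h b v
    | add x y hx hy => intro v; rw [smul_add, map_add, map_add, LinearMap.add_apply, LinearMap.add_apply, map_add, hx, hy]
    | smul c x hx =>
      intro v
      have : h • (c • x) = c • (h • x) := map_smul (A h) c x
      rw [this, map_smul, map_smul, LinearMap.smul_apply, LinearMap.smul_apply, map_smul, hx]
  have hcommR : ∀ (r r' : R) (v : V), φ r (φ r' v) = φ r' (φ r v) := fun r r' v => by
    rw [← End.mul_apply, ← map_mul, mul_comm, map_mul, End.mul_apply]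
  -- blocks
  let W : MaximalSpectrum R → Submodule k V := fun m => ⨅ r ∈ m.asIdeal, LinearMap.ker (φ r)
  have hWmem : ∀ m v, v ∈ W m ↔ ∀ r ∈ m.asIdeal, φ r v = 0 := fun m v => by
    simp [W, Submodule.mem_iInf]
  let mk : ∀ m : MaximalSpectrum R, R →+* R ⧸ m.asIdeal := fun m => Ideal.Quotient.mk _
  have hcongr : ∀ m r r' v, v ∈ W m → mk m r = mk m r' → φ r v = φ r' v := by
    intro m r r' v hv h
    have := (hWmem m v).1 hv _ (Ideal.Quotient.eq.1 h)
    rw [map_sub, LinearMap.sub_apply, sub_eq_zero] at this
    exact this
  have hWinv : ∀ m r v, v ∈ W m → φ r v ∈ W m := by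
    intro m r v hv
    rw [hWmem] at hv ⊢
    intro r' hr'
    rw [hcommR, hv r' hr', map_zero]
  let actM : MulAction H (MaximalSpectrum R) :=
    { smul := fun h m => ⟨m.asIdeal.comap (MulSemiringAction.toRingHom H R h⁻¹),
        haveI := m.isMaximal
        Ideal.comap_isMaximal_of_surjective _ (fun r => ⟨h • r, inv_smul_smul h r⟩)⟩
      one_smul := fun m => MaximalSpectrum.ext (Ideal.ext fun r => by
        show (1 : H)⁻¹ • r ∈ m.asIdeal ↔ r ∈ m.asIdeal
        rw [inv_one, one_smul])
      mul_smul := fun g h m => MaximalSpectrum.ext (Ideal.ext fun r => by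
        show (g * h)⁻¹ • r ∈ m.asIdeal ↔ h⁻¹ • g⁻¹ • r ∈ m.asIdeal
        rw [mul_inv_rev, mul_smul]) }
  have hact : ∀ (h : H) (m : MaximalSpectrum R) (r : R), r ∈ (h • m).asIdeal ↔ h⁻¹ • r ∈ m.asIdeal :=
    fun _ _ _ => Iff.rfl
  have hWsmul : ∀ (h : H) m, W (h • m) = (W m).map (σ h) := by
    intro h m
    ext v
    constructor
    · intro hv
      refine ⟨σ h⁻¹ v, (hWmem m _).2 fun r hr => ?_, inv_apply σ h v⟩
      have h1 := (hWmem _ v).1 hv (h • r) (by rw [hact, inv_smul_smul]; exact hr)
      have h2 := hcompatR h⁻¹ (h • r) v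
      rw [h1, map_zero, inv_smul_smul] at h2
      exact h2.symm
    · rintro ⟨u, hu, rfl⟩
      refine (hWmem _ _).2 fun r hr => ?_
      have h2 := hcompatR h (h⁻¹ • r) u
      rw [(hWmem m u).1 hu (h⁻¹ • r) hr, map_zero, smul_inv_smul] at h2
      exact h2.symm
  -- decomposition
  haveI : Fintype (MaximalSpectrum R) := Fintype.ofFinite _
  let ε : MaximalSpectrum R → R := fun m => (IsArtinianRing.equivPi R).symm (Pi.single m 1)
  have hε : ∀ m m', mk m' (ε m) = (Pi.single m 1 : ∀ I : MaximalSpectrum R, R ⧸ I.asIdeal) m' := by
    intro m m'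
    show (IsArtinianRing.equivPi R) (ε m) m' = _
    rw [AlgEquiv.apply_symm_apply]
  have hεW : ∀ m v, φ (ε m) v ∈ W m := by
    intro m v
    refine (hWmem _ _).2 fun r hr => ?_
    rw [← End.mul_apply, ← map_mul]
    have : r * ε m = 0 := (IsArtinianRing.equivPi R).injective (by
      rw [map_zero]
      funext m'
      show mk m' (r * ε m) = 0
      rw [map_mul, hε]
      by_cases hm : m' = m
      · subst hm; rw [show mk m' r = 0 from Ideal.Quotient.eq_zero_iff_mem.2 hr, zero_mul]
      · rw [Pi.single_eq_of_ne hm, mul_zero])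
    rw [this, map_zero, LinearMap.zero_apply]
  have hεsum : ∑ m, ε m = 1 := (IsArtinianRing.equivPi R).injective (by
    rw [map_one, map_sum]
    simp only [ε, AlgEquiv.apply_symm_apply]
    exact Finset.univ_sum_single _)
  have hdecomp : ∀ v, ∑ m, φ (ε m) v = v := fun v => by
    rw [← LinearMap.sum_apply, ← map_sum, hεsum, map_one, End.one_apply]
  have hεone : ∀ m v, v ∈ W m → φ (ε m) v = v := fun m v hv => by
    rw [hcongr m (ε m) 1 v hv (by rw [hε, Pi.single_eq_same, map_one]), map_one, End.one_apply]
  have hεzero : ∀ m m' v, m' ≠ m → v ∈ W m' → φ (ε m) v = 0 := fun m m' v hne hv => by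
    rw [hcongr m' (ε m) 0 v hv (by rw [hε, Pi.single_eq_of_ne hne, map_zero]), map_zero, LinearMap.zero_apply]
  have hdimsum : ∑ m, finrank k (W m) ≤ finrank k V := by
    rw [← Module.finrank_pi_fintype]
    let g : (∀ m, W m) →ₗ[k] V :=
      { toFun := fun f => ∑ m, (f m : V)
        map_add' := fun f f' => by simp [Finset.sum_add_distrib]
        map_smul' := fun c f => by simp [Finset.smul_sum] }
    refine LinearMap.finrank_le_finrank_of_injective (f := g) (fun f f' hff => funext fun m => Subtype.ext ?_)
    have key : ∀ f : (∀ m, W m), φ (ε m) (g f) = f m := by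
      intro f
      show φ (ε m) (∑ m', (f m' : V)) = _
      rw [map_sum, Finset.sum_eq_single m (fun m' _ hne => hεzero m m' _ hne (f m').2)
        (fun h => absurd (Finset.mem_univ m) h), hεone m _ (f m).2]
    rw [← key f, ← key f', hff]
  -- one block
  have hblock : ∀ m, ∃ U : Submodule k V, U ≤ W m ∧
      W m ≤ ⨆ g : MulAction.stabilizer H m, U.map (σ (g : H)) ∧
      Nat.card (MulAction.stabilizer H m) * finrank k U ≤ finrank k (W m) := by
    intro m
    by_cases hW0 : W m = ⊥
    · exact ⟨⊥, bot_le, by rw [hW0]; exact bot_le, by simp⟩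
    set K := MulAction.stabilizer H m with hKdef
    haveI := Fintype.ofFinite K
    haveI := m.isMaximal
    letI : Field (R ⧸ m.asIdeal) := Ideal.Quotient.field _
    let E := R ⧸ m.asIdeal
    have hstab : ∀ (g : K) (r : R), r ∈ m.asIdeal → (g : H) • r ∈ m.asIdeal := by
      intro g r hr
      have h1 : (g : H) • r ∈ ((g : H) • m).asIdeal := by rw [hact, inv_smul_smul]; exact hr
      rwa [g.2] at h1
    let aE : K → E →+* E := fun g =>
      Ideal.Quotient.lift m.asIdeal ((mk m).comp (MulSemiringAction.toRingHom H R (g : H)))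
        (fun r hr => Ideal.Quotient.eq_zero_iff_mem.2 (hstab g r hr))
    have haE : ∀ g r, aE g (mk m r) = mk m ((g : H) • r) := fun g r => Ideal.Quotient.lift_mk _ _ _
    letI actE : MulSemiringAction K E :=
      { smul := fun g x => aE g x
        one_smul := fun x => by
          obtain ⟨r, rfl⟩ := Ideal.Quotient.mk_surjective x
          show aE 1 (mk m r) = mk m r
          rw [haE, OneMemClass.coe_one, one_smul]
        mul_smul := fun g h x => by
          obtain ⟨r, rfl⟩ := Ideal.Quotient.mk_surjective x
          show aE (g * h) (mk m r) = aE g (aE h (mk m r))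
          rw [haE, haE, haE, Subgroup.coe_mul, mul_smul]
        smul_zero := fun g => map_zero (aE g)
        smul_add := fun g => map_add (aE g)
        smul_one := fun g => map_one (aE g)
        smul_mul := fun g => map_mul (aE g) }
    have hsmulE : ∀ (g : K) (r : R), g • (mk m r : E) = mk m ((g : H) • r) := haE
    -- faithfulness
    have htriv : ∀ g : K, (∀ x : E, g • x = x) → g = 1 := by
      intro g hg
      by_contra hne
      have hgH : (g : H) ≠ 1 := fun h => hne (Subtype.ext h)
      obtain ⟨v, hv, hv0⟩ := Submodule.exists_mem_ne_zero_of_ne_bot hW0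
      refine hv0 (hfix v fun b => ?_)
      obtain ⟨c, hc⟩ := hfpf g hgH b
      have h1 : mk m ((g : H) • (MonoidAlgebra.of k B c : R)) = mk m (MonoidAlgebra.of k B c) := by
        rw [← hsmulE]; exact hg _
      have h2 : (g : H) • (MonoidAlgebra.of k B c : R) = MonoidAlgebra.of k B (α g c) := by
        show (MonoidAlgebra.domCongr k k (α g)) (MonoidAlgebra.single c (1 : k)) = _
        rw [MonoidAlgebra.domCongr_single]; rfl
      have h3 : mk m (MonoidAlgebra.of k B b : R) = mk m 1 := by
        rw [hc, map_mul (MonoidAlgebra.of k B), map_mul, ← h2, h1, ← map_mul, ← map_mul, inv_mul_cancel, map_one]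
      have := hcongr m _ 1 v hv h3
      rwa [map_one, End.one_apply, show φ (MonoidAlgebra.of k B b) = τ b from Representation.asAlgebraHom_of τ b] at this
    haveI : FaithfulSMul K E := ⟨fun {g h} hgh => inv_mul_eq_one.1 (htriv (g⁻¹ * h) fun x => by
      rw [mul_smul, ← hgh x, inv_smul_smul])⟩
    let L := FixedPoints.subfield K E
    haveI : IsGalois L E := ⟨⟩
    let e : K ≃* (E ≃ₐ[L] E) := FixedPoints.toAlgAutMulEquiv K E
    let bas : Basis K L E := (IsGalois.normalBasis L E).reindex e.symm.toEquiv
    have hbas : ∀ y, bas y = y • bas 1 := by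
      intro y
      simp only [bas, Basis.reindex_apply]
      show IsGalois.normalBasis L E (e y) = y • IsGalois.normalBasis L E (e 1)
      rw [IsGalois.normalBasis_apply (e y), map_one e]
      rfl
    obtain ⟨θ, hθ⟩ := Ideal.Quotient.mk_surjective (bas 1)
    let M : Matrix K K E := fun x y => (x * y) • bas 1
    have hMu : IsUnit M := by
      rw [← Matrix.vecMul_injective_iff_isUnit]
      intro c d hcd
      rw [← sub_eq_zero]
      have h0 : Matrix.vecMul (c - d) M = 0 := by rw [Matrix.sub_vecMul]; exact sub_eq_zero.2 hcd
      let lin : E →ₗ[L] E :=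
        { toFun := fun z => ∑ x, (c - d) x * (x • z)
          map_add' := fun z z' => by simp [smul_add, mul_add, Finset.sum_add_distrib]
          map_smul' := fun l z => by
            simp only [RingHom.id_apply, Finset.smul_sum]
            refine Finset.sum_congr rfl fun x _ => ?_
            rw [smul_comm x l z, mul_smul_comm] }
      have hlin : lin = 0 := bas.ext fun y => by
        have h1 := congrFun h0 y
        simp only [Matrix.vecMul, dotProduct, M, Pi.zero_apply] at h1
        show ∑ x, (c - d) x * (x • bas y) = 0
        refine (Finset.sum_congr rfl fun x _ => ?_).trans h1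
        rw [hbas y, mul_smul]
      have hli : LinearIndependent E (fun x : K => ⇑((MulSemiringAction.toRingHom K E x).toMonoidHom)) :=
        (linearIndependent_monoidHom E E).comp (fun x : K => (MulSemiringAction.toRingHom K E x).toMonoidHom)
          (fun x y h => FaithfulSMul.eq_of_smul_eq_smul (α := E) fun z => DFunLike.congr_fun h z)
      funext x
      refine Fintype.linearIndependent_iff.1 hli (c - d) (funext fun z => ?_) x
      have := LinearMap.congr_fun hlin z
      simpa [Finset.sum_apply, lin] using this
    obtain ⟨Mu, hMu⟩ := hMu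
    let N : Matrix K K E := ↑Mu⁻¹
    have hMN : M * N = 1 := by rw [← hMu]; exact Units.mul_inv Mu
    have hNM : N * M = 1 := by rw [← hMu]; exact Units.inv_mul Mu
    have hM : ∀ x y : K, M x y = mk m ((x : H) • (y : H) • θ) := by
      intro x y
      show (x * y) • bas 1 = _
      rw [← hθ, ← mul_smul, ← Subgroup.coe_mul]
      exact hsmulE _ _
    choose N' hN' using fun x y => Ideal.Quotient.mk_surjective (N x y)
    have hσW : ∀ (g : K) v, v ∈ W m → σ (g : H) v ∈ W m := by
      intro g v hv
      have h1 := Submodule.mem_map_of_mem (f := σ (g : H)) hv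
      rwa [← hWsmul, g.2] at h1
    -- fixed vectors
    let Fx : Submodule k V := W m ⊓ ⨅ g : K, LinearMap.eqLocus (σ (g : H)) LinearMap.id
    have hFx : ∀ v, v ∈ Fx ↔ v ∈ W m ∧ ∀ g : K, σ (g : H) v = v := fun v => by
      simp [Fx, Submodule.mem_iInf]
    refine ⟨Fx.map (φ θ), ?_, ?_, ?_⟩
    · rintro _ ⟨u, hu, rfl⟩; exact hWinv m θ u ((hFx u).1 hu).1
    · intro w hw
      let u : K → V := fun y => ∑ x : K, φ ((x : H) • (y : H) • θ) (σ (x : H) w)
      have huW : ∀ y, u y ∈ W m := fun y => Submodule.sum_mem _ fun x _ => hWinv _ _ _ (hσW x w hw)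
      have hufix : ∀ y, u y ∈ Fx := by
        intro y
        refine (hFx _).2 ⟨huW y, fun g => ?_⟩
        simp only [u, map_sum]
        refine Fintype.sum_equiv (Equiv.mulLeft g) _ _ fun x => ?_
        rw [hcompatR, Equiv.coe_mulLeft, Subgroup.coe_mul, ← End.mul_apply (σ (g : H)), ← map_mul, ← mul_smul]
      have hrec : ∑ y : K, φ (N' y 1) (u y) = w := by
        calc ∑ y : K, φ (N' y 1) (u y)
            = ∑ x : K, φ (∑ y : K, N' y 1 * ((x : H) • (y : H) • θ)) (σ (x : H) w) := by
              simp only [u, map_sum, LinearMap.sum_apply]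
              rw [Finset.sum_comm]
              refine Finset.sum_congr rfl fun x _ => Finset.sum_congr rfl fun y _ => ?_
              rw [map_mul, End.mul_apply]
          _ = ∑ x : K, φ (if x = 1 then 1 else 0) (σ (x : H) w) := by
              refine Finset.sum_congr rfl fun x _ => hcongr m _ _ _ (hσW x w hw) ?_
              have h1 := congrFun (congrFun hMN x) 1
              rw [Matrix.mul_apply, Matrix.one_apply] at h1
              rw [map_sum, apply_ite (mk m), map_one, map_zero, ← h1]
              refine Finset.sum_congr rfl fun y _ => ?_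
              rw [map_mul, hM, mul_comm, show mk m (N' y 1) = N y 1 from hN' y 1]
          _ = w := by
              rw [Finset.sum_eq_single (1 : K) (fun x _ hx => by rw [if_neg hx, map_zero, LinearMap.zero_apply])
                (fun h => absurd (Finset.mem_univ _) h), if_pos rfl, map_one, End.one_apply, OneMemClass.coe_one,
                map_one, End.one_apply]
      rw [← hrec]
      refine Submodule.sum_mem _ fun y _ => ?_
      let l : K → L := fun z => bas.repr (N y 1) z
      choose l' hl' using fun z => Ideal.Quotient.mk_surjective ((l z : L) : E)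
      have hcong : mk m (N' y 1) = mk m (∑ z : K, ((z : H) • θ) * l' z) := by
        rw [show mk m (N' y 1) = N y 1 from hN' y 1, map_sum]
        refine (bas.sum_repr (N y 1)).symm.trans (Finset.sum_congr rfl fun z _ => ?_)
        rw [map_mul, show mk m (l' z) = ((l z : L) : E) from hl' z, ← hsmulE, hbas z,
          show mk m θ = bas 1 from hθ, Subfield.smul_def, smul_eq_mul, mul_comm]
      rw [hcongr m _ _ _ (huW y) hcong, map_sum φ, LinearMap.sum_apply]
      refine Submodule.sum_mem _ fun z _ => Submodule.mem_iSup_of_mem z ?_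
      have hl : φ (l' z) (u y) ∈ Fx := by
        refine (hFx _).2 ⟨hWinv _ _ _ (huW y), fun g => ?_⟩
        rw [hcompatR, ((hFx _).1 (hufix y)).2 g]
        refine hcongr m _ _ _ (huW y) ?_
        rw [← hsmulE, show mk m (l' z) = ((l z : L) : E) from hl' z]
        exact (l z).2 g
      refine ⟨φ θ (φ (l' z) (u y)), ⟨_, hl, rfl⟩, ?_⟩
      rw [hcompatR, ((hFx _).1 hl).2 z, map_mul, End.mul_apply]
    · refine le_trans (Nat.mul_le_mul_left _ (Submodule.finrank_map_le _ _)) ?_
      let g : (K → Fx) →ₗ[k] W m :=
        { toFun := fun f => ⟨∑ y : K, φ ((y : H) • θ) (f y : V),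
            Submodule.sum_mem _ fun y _ => hWinv _ _ _ ((hFx _).1 (f y).2).1⟩
          map_add' := fun f f' => Subtype.ext (by simp [Finset.sum_add_distrib])
          map_smul' := fun c f => Subtype.ext (by simp [Finset.smul_sum]) }
      have hker : ∀ f, g f = 0 → f = 0 := by
        intro f hf
        funext z
        refine Subtype.ext ?_
        show (f z : V) = 0
        have h0 : ∑ y : K, φ ((y : H) • θ) (f y : V) = 0 := congrArg Subtype.val hf
        calc (f z : V) = ∑ y : K, φ (if z = y then 1 else 0) (f y : V) := by
              rw [Finset.sum_eq_single z (fun y _ hy => by rw [if_neg (Ne.symm hy), map_zero, LinearMap.zero_apply])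
                (fun h => absurd (Finset.mem_univ _) h), if_pos rfl, map_one, End.one_apply]
          _ = ∑ y : K, φ (∑ x : K, N' z x * ((x : H) • (y : H) • θ)) (f y : V) := by
              refine Finset.sum_congr rfl fun y _ => hcongr m _ _ _ ((hFx _).1 (f y).2).1 ?_
              have h1 := congrFun (congrFun hNM z) y
              rw [Matrix.mul_apply, Matrix.one_apply] at h1
              rw [map_sum, apply_ite (mk m), map_one, map_zero, ← h1]
              refine Finset.sum_congr rfl fun x _ => ?_
              rw [map_mul, hM, show mk m (N' z x) = N z x from hN' z x]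
          _ = ∑ x : K, φ (N' z x) (σ (x : H) (∑ y : K, φ ((y : H) • θ) (f y : V))) := by
              simp only [map_sum, LinearMap.sum_apply]
              rw [Finset.sum_comm]
              refine Finset.sum_congr rfl fun x _ => Finset.sum_congr rfl fun y _ => ?_
              rw [hcompatR, ((hFx _).1 (f y).2).2 x, map_mul, End.mul_apply]
          _ = 0 := by simp [h0]
      have hinj : Function.Injective g := (injective_iff_map_eq_zero g).2 hker
      have := LinearMap.finrank_le_finrank_of_injective hinj
      rwa [Module.finrank_pi_fintype, Finset.sum_const, Finset.card_univ, smul_eq_mul,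
        ← Nat.card_eq_fintype_card] at this
  choose U hUW hspan hdim using hblock
  -- assemble
  let Q := Quotient (MulAction.orbitRel H (MaximalSpectrum R))
  haveI : Fintype Q := Fintype.ofFinite _
  let rep : Q → MaximalSpectrum R := fun q => q.out
  refine ⟨⨆ q, U (rep q), ?_, ?_⟩
  · set T := ⨆ h : H, (⨆ q, U (rep q)).map (σ h) with hT
    have hTinv : ∀ h, T.map (σ h) ≤ T := by
      intro h
      rw [hT, Submodule.map_iSup]
      refine iSup_le fun g => ?_
      refine le_iSup_of_le (h * g) ?_
      rw [← Submodule.map_comp]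
      refine le_of_eq (congrArg (fun f => Submodule.map f _) ?_)
      rw [map_mul]; rfl
    refine eq_top_iff.2 fun v _ => ?_
    rw [← hdecomp v]
    refine Submodule.sum_mem _ fun m _ => ?_
    obtain ⟨h, hh⟩ : m ∈ MulAction.orbit H (rep ⟦m⟧) :=
      MulAction.orbitRel_apply.1 (Quotient.exact (Quotient.out_eq (⟦m⟧ : Q)).symm)
    have h1 : W (rep ⟦m⟧) ≤ T := by
      refine (hspan _).trans (iSup_le fun g => ?_)
      rw [hT]
      exact le_iSup_of_le (g : H) (Submodule.map_mono (le_iSup (fun q => U (rep q)) ⟦m⟧))
    have h2 : W m ≤ T := by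
      rw [← hh, hWsmul]
      exact (Submodule.map_mono h1).trans (hTinv h)
    exact h2 (hεW m v)
  · refine le_trans (Nat.mul_le_mul_left _ (finrank_iSup_le_sum _)) (le_trans ?_ hdimsum)
    rw [Finset.mul_sum]
    have hsum : ∑ m, finrank k (W m) =
        ∑ q : Q, ∑ _x : MulAction.orbit H (rep q), finrank k (W (rep q)) := by
      rw [← (MulAction.selfEquivSigmaOrbits H (MaximalSpectrum R)).symm.sum_comp, Fintype.sum_sigma]
      refine Finset.sum_congr rfl fun q _ => Finset.sum_congr rfl fun x _ => ?_
      obtain ⟨h, hh⟩ := x.2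
      show finrank k (W (x : MaximalSpectrum R)) = _
      rw [← hh, hWsmul]
      exact (Submodule.equivMapOfInjective _ (Function.LeftInverse.injective (g := σ h⁻¹) fun v => by
        rw [← End.mul_apply, ← map_mul, inv_mul_cancel, map_one, End.one_apply]) _).finrank_eq.symm
    rw [hsum]
    refine Finset.sum_le_sum fun q _ => ?_
    rw [Finset.sum_const, Finset.card_univ, smul_eq_mul]
    have hc : Fintype.card (MulAction.orbit H (rep q)) * Nat.card (MulAction.stabilizer H (rep q)) = Nat.card H := by
      rw [Nat.card_eq_fintype_card, Nat.card_eq_fintype_card]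
      exact MulAction.card_orbit_mul_card_stabilizer_eq_card_group H _
    rw [← hc, mul_assoc]
    exact Nat.mul_le_mul_left _ (hdim _)

end Abelian

end Cfsg.Agent.H91.FreeModule
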