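import Cfsg.Prelude.Def_Local
import Cfsg.Agent.H84.PSolvable
import Cfsg.Agent.H19.Cores
import Cfsg.Agent.H19.MinimalNormal
import Cfsg.Agent.H19.SchurZassenhaus
import Mathlib

/-!
Groups in which every maximal subgroup has a normal p-complement or prime index.
-/

namespace Cfsg.Agent.H91.LengthTwo

open scoped Pointwise

/-- A chain of normal subgroups with factors alternately prime to `p` and `p`-groups. -/
def Good (p : ℕ) (G : Type*) [Group G] : Prop :=
  ∃ A B C D : Subgroup G, A.Normal ∧ B.Normal ∧ C.Normal ∧ D.Normal ∧ A ≤ B ∧ B ≤ C ∧ C ≤ D ∧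
    ¬ p ∣ Nat.card A ∧ (∃ k : ℕ, A.relIndex B = p ^ k) ∧ ¬ p ∣ B.relIndex C ∧
    (∃ k : ℕ, C.relIndex D = p ^ k) ∧ ¬ p ∣ D.index ∧ (p = 2 → D = ⊤)

/-- The hypothesis on maximal subgroups. -/
def MaxHyp (p : ℕ) (G : Type*) [Group G] : Prop :=
  ∀ M : Subgroup G, IsCoatom M →
    (∃ K : Subgroup ↥M, K.Normal ∧ ¬ p ∣ Nat.card K ∧ ∃ k : ℕ, K.index = p ^ k) ∨ (M.index).Prime

variable {G : Type*} [Group G] {p : ℕ}

theorem relIndex_dvd_of_le {A X Y : Subgroup G} [A.Normal] (h : X ≤ Y) :
    A.relIndex X ∣ A.relIndex Y := by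
  have := Subgroup.relIndex_dvd_index_of_normal (A.subgroupOf Y) (X.subgroupOf Y)
  rwa [Subgroup.relIndex_subgroupOf h] at this

theorem relIndex_inf_dvd {A₁ A₂ B₁ B₂ : Subgroup G} [A₁.Normal] [A₂.Normal] :
    (A₁ ⊓ A₂).relIndex (B₁ ⊓ B₂) ∣ A₁.relIndex B₁ * A₂.relIndex B₂ := by
  rw [← Subgroup.relIndex_inf_mul_relIndex]
  exact mul_dvd_mul (relIndex_dvd_of_le (inf_le_right.trans inf_le_left)) (relIndex_dvd_of_le inf_le_right)

theorem not_dvd_mul {a b : ℕ} [hp : Fact p.Prime] (ha : ¬ p ∣ a) (hb : ¬ p ∣ b) {c : ℕ} (h : c ∣ a * b) :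
    ¬ p ∣ c := fun hc => (hp.out.dvd_mul.1 (hc.trans h)).elim ha hb

theorem pow_mul_dvd {a b c : ℕ} [hp : Fact p.Prime] (ha : ∃ k, a = p ^ k) (hb : ∃ k, b = p ^ k)
    (h : c ∣ a * b) : ∃ k, c = p ^ k := by
  obtain ⟨i, rfl⟩ := ha
  obtain ⟨j, rfl⟩ := hb
  rw [← pow_add] at h
  obtain ⟨k, -, hk⟩ := (Nat.dvd_prime_pow hp.out).1 h
  exact ⟨k, hk⟩

/-- Subdirect products. -/
theorem good_of_two [Finite G] [Fact p.Prime] {N₁ N₂ : Subgroup G} [N₁.Normal] [N₂.Normal]
    (h12 : N₁ ⊓ N₂ = ⊥) (h₁ : Good p (G ⧸ N₁)) (h₂ : Good p (G ⧸ N₂)) : Good p G := by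
  obtain ⟨A, B, C, D, hA, hB, hC, hD, hAB, hBC, hCD, a1, a2, a3, a4, a5, a6⟩ := h₁
  obtain ⟨A', B', C', D', hA', hB', hC', hD', hAB', hBC', hCD', b1, b2, b3, b4, b5, b6⟩ := h₂
  let f := QuotientGroup.mk' N₁
  let g := QuotientGroup.mk' N₂
  have hf : Function.Surjective f := QuotientGroup.mk'_surjective _
  have hg : Function.Surjective g := QuotientGroup.mk'_surjective _
  have hrel : ∀ X Y : Subgroup (G ⧸ N₁), (X.comap f).relIndex (Y.comap f) = X.relIndex Y := fun X Y => by
    rw [Subgroup.relIndex_comap, Subgroup.map_comap_eq_self_of_surjective hf]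
  have hrel' : ∀ X Y : Subgroup (G ⧸ N₂), (X.comap g).relIndex (Y.comap g) = X.relIndex Y := fun X Y => by
    rw [Subgroup.relIndex_comap, Subgroup.map_comap_eq_self_of_surjective hg]
  refine ⟨A.comap f ⊓ A'.comap g, B.comap f ⊓ B'.comap g, C.comap f ⊓ C'.comap g,
    D.comap f ⊓ D'.comap g, inferInstance, inferInstance, inferInstance, inferInstance,
    inf_le_inf (Subgroup.comap_mono hAB) (Subgroup.comap_mono hAB'),
    inf_le_inf (Subgroup.comap_mono hBC) (Subgroup.comap_mono hBC'),
    inf_le_inf (Subgroup.comap_mono hCD) (Subgroup.comap_mono hCD'), ?_, ?_, ?_, ?_, ?_, ?_⟩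
  · have h := relIndex_inf_dvd (A₁ := (⊥ : Subgroup (G ⧸ N₁)).comap f)
      (A₂ := (⊥ : Subgroup (G ⧸ N₂)).comap g) (B₁ := A.comap f) (B₂ := A'.comap g)
    rw [hrel, hrel', Subgroup.relIndex_bot_left, Subgroup.relIndex_bot_left, MonoidHom.comap_bot,
      MonoidHom.comap_bot, QuotientGroup.ker_mk', QuotientGroup.ker_mk', h12,
      Subgroup.relIndex_bot_left] at h
    exact not_dvd_mul a1 b1 h
  · exact pow_mul_dvd a2 b2 (hrel A B ▸ hrel' A' B' ▸ relIndex_inf_dvd)
  · exact not_dvd_mul a3 b3 (hrel B C ▸ hrel' B' C' ▸ relIndex_inf_dvd)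
  · exact pow_mul_dvd a4 b4 (hrel C D ▸ hrel' C' D' ▸ relIndex_inf_dvd)
  · have h := relIndex_inf_dvd (A₁ := D.comap f) (A₂ := D'.comap g) (B₁ := (⊤ : Subgroup (G ⧸ N₁)).comap f)
      (B₂ := (⊤ : Subgroup (G ⧸ N₂)).comap g)
    rw [hrel, hrel', Subgroup.relIndex_top_right, Subgroup.relIndex_top_right, Subgroup.comap_top,
      Subgroup.comap_top, inf_top_eq, Subgroup.relIndex_top_right] at h
    exact not_dvd_mul a5 b5 h
  · intro h2
    rw [a6 h2, b6 h2, Subgroup.comap_top, Subgroup.comap_top, inf_top_eq]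

theorem maxHyp_quotient [Finite G] [hp : Fact p.Prime] (h : MaxHyp p G) (N : Subgroup G) [N.Normal] :
    MaxHyp p (G ⧸ N) := by
  intro M hM
  let f := QuotientGroup.mk' N
  have hf : Function.Surjective f := QuotientGroup.mk'_surjective _
  have hM' : IsCoatom (M.comap f) := Subgroup.isCoatom_comap_of_surjective hf hM
  rcases h _ hM' with ⟨K, hK, hKp, k, hk⟩ | hi
  · left
    let g : (M.comap f) →* M := (f.comp (M.comap f).subtype).codRestrict M fun x => x.2
    have hg : Function.Surjective g := by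
      rintro ⟨y, hy⟩
      obtain ⟨x, rfl⟩ := hf y
      exact ⟨⟨x, hy⟩, Subtype.ext rfl⟩
    refine ⟨K.map g, hK.map g hg, fun hd => hKp (hd.trans (Subgroup.card_map_dvd _ _)), ?_⟩
    obtain ⟨j, -, hj⟩ := (Nat.dvd_prime_pow hp.out).1 (hk ▸ Subgroup.index_map_dvd K hg)
    exact ⟨j, hj⟩
  · exact Or.inr (by rwa [Subgroup.index_comap_of_surjective M hf] at hi)

/-- A minimal normal subgroup of a `p`-solvable group is a `p`-group or has order prime to `p`. -/
theorem minimal_cases [Finite G] [hp : Fact p.Prime] (h : Cfsg.IsPSolvable p G) {N : Subgroup G} [N.Normal]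
    (hN : N ≠ ⊥) (hmin : ∀ L : Subgroup G, L.Normal → L ≤ N → L = ⊥ ∨ L = N) :
    IsPGroup p N ∨ ¬ p ∣ Nat.card N := by
  classical
  obtain ⟨n, H, h0, hn, hmono, hnor, hstep⟩ := h
  have hex : ∃ i : Fin n, N ⊓ H i.castSucc = ⊥ ∧ N ≤ H i.succ := by
    by_contra hcon
    push Not at hcon
    have : ∀ i : Fin (n + 1), N ⊓ H i = ⊥ := by
      intro i
      induction i using Fin.induction with
      | zero => rw [h0, inf_bot_eq]
      | succ i ih =>
        haveI := hnor i.succ
        refine (hmin _ inferInstance inf_le_left).resolve_right fun e => hcon i ih (e ▸ inf_le_right)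
    have h1 := this (Fin.last n)
    rw [hn, inf_top_eq] at h1
    exact hN h1
  obtain ⟨i, hi0, hi1⟩ := hex
  haveI := hnor i.castSucc
  have hd : Nat.card N ∣ (H i.castSucc).relIndex (H i.succ) := by
    have := relIndex_dvd_of_le (A := H i.castSucc) hi1
    rwa [← Subgroup.inf_relIndex_right, inf_comm, hi0, Subgroup.relIndex_bot_left] at this
  rcases hstep i with ⟨m, hm⟩ | hc
  · obtain ⟨j, -, hj⟩ := (Nat.dvd_prime_pow hp.out).1 (hm ▸ hd)
    exact Or.inl (IsPGroup.of_card hj)
  · exact Or.inr fun hpd => hp.out.coprime_iff_not_dvd.1 hc.symm (hpd.trans hd)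

universe u

theorem good_of_maxHyp [hp : Fact p.Prime] : ∀ (n : ℕ) (G : Type u) [Group G] [Finite G],
    Nat.card G = n → Cfsg.IsPSolvable p G → MaxHyp p G → Good p G := by
  intro n
  induction n using Nat.strong_induction_on with
  | _ n ih =>
  intro G _ _ hn hsol hmax
  rcases subsingleton_or_nontrivial G with hG | hG
  · refine ⟨⊥, ⊥, ⊥, ⊤, inferInstance, inferInstance, inferInstance, inferInstance, le_rfl, le_rfl,
      bot_le, by simp [hp.out.ne_one], ⟨0, by simp⟩, by simp [hp.out.ne_one], ⟨0, ?_⟩,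
      by simp [hp.out.ne_one], fun _ => rfl⟩
    rw [pow_zero, Subgroup.relIndex_top_right, Subgroup.index_bot, Nat.card_eq_one_iff_unique]
    exact ⟨hG, ⟨1⟩⟩
  obtain ⟨N, hNn, hN0, -, hmin⟩ := H19.exists_minimalNormal_le (⊤ : Subgroup G) top_ne_bot
  haveI := hNn
  have hquot : ∀ (L : Subgroup G) [L.Normal], L ≠ ⊥ → Good p (G ⧸ L) := by
    intro L _ hL
    refine ih _ ?_ _ rfl (H84.isPSolvable_of_surjective _ (QuotientGroup.mk'_surjective L) hsol)
      (maxHyp_quotient hmax L)
    rw [← hn, ← Subgroup.index_eq_card, ← L.card_mul_index]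
    exact lt_mul_of_one_lt_left (Nat.pos_of_ne_zero Subgroup.index_ne_zero_of_finite)
      ((Subgroup.one_lt_card_iff_ne_bot L).2 hL)
  by_cases huniq : ∀ L : Subgroup G, L.Normal → L ≠ ⊥ → N ≤ L
  swap
  · push Not at huniq
    obtain ⟨L, hL, hL0, hNL⟩ := huniq
    haveI := hL
    refine good_of_two ?_ (hquot N hN0) (hquot L hL0)
    exact (hmin _ inferInstance inf_le_left).resolve_right fun e => hNL (e ▸ inf_le_right)
  obtain ⟨A, B, C, D, hA, hB, hC, hD, hAB, hBC, hCD, a1, a2, a3, a4, a5, a6⟩ := hquot N hN0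
  let f := QuotientGroup.mk' N
  have hf : Function.Surjective f := QuotientGroup.mk'_surjective _
  have hrel : ∀ X Y : Subgroup (G ⧸ N), (X.comap f).relIndex (Y.comap f) = X.relIndex Y := fun X Y => by
    rw [Subgroup.relIndex_comap, Subgroup.map_comap_eq_self_of_surjective hf]
  have hcard : ∀ X : Subgroup (G ⧸ N), Nat.card (X.comap f) = Nat.card N * Nat.card X := by
    intro X
    have h1 := Subgroup.relIndex_mul_relIndex ⊥ N (X.comap f) bot_le (fun x hx => by
      show f x ∈ X
      rw [show f x = 1 from (QuotientGroup.eq_one_iff x).2 hx]; exact X.one_mem)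
    rw [Subgroup.relIndex_bot_left, Subgroup.relIndex_bot_left] at h1
    rw [← h1]
    have h2 := hrel ⊥ X
    rw [MonoidHom.comap_bot, QuotientGroup.ker_mk', Subgroup.relIndex_bot_left] at h2
    rw [h2]
  rcases minimal_cases hsol hN0 hmin with hNp | hNp'
  swap
  · refine ⟨A.comap f, B.comap f, C.comap f, D.comap f, inferInstance, inferInstance, inferInstance,
      inferInstance, Subgroup.comap_mono hAB, Subgroup.comap_mono hBC, Subgroup.comap_mono hCD,
      ?_, hrel A B ▸ a2, hrel B C ▸ a3, hrel C D ▸ a4, ?_, fun h2 => by rw [a6 h2, Subgroup.comap_top]⟩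
    · rw [hcard]; exact not_dvd_mul hNp' a1 dvd_rfl
    · rwa [Subgroup.index_comap_of_surjective D hf]
  haveI := hNp.isNilpotent
  haveI hNs : Group.IsSolvable N := inferInstance
  obtain ⟨hNc, -⟩ := H19.minimalNormal_elementary N hNs hN0 hmin
  haveI := hNc
  obtain ⟨c, hc⟩ := IsPGroup.iff_card.1 hNp
  by_cases hΦ : N ≤ frattini G
  · -- the bottom `p'`-factor is trivial
    have hA0 : A = ⊥ := by
      set A' := A.comap f with hA'
      have hNA : N ≤ A' := fun x hx => by
        show f x ∈ A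
        rw [show f x = 1 from (QuotientGroup.eq_one_iff x).2 hx]; exact A.one_mem
      let Nj := N.subgroupOf A'
      haveI : Nj.Normal := Subgroup.Normal.subgroupOf hNn A'
      have hcN : Nat.card Nj = Nat.card N := Nat.card_congr (Subgroup.subgroupOfEquivOfLe hNA).toEquiv
      have hind : Nj.index = Nat.card A := by
        have h2 := hrel ⊥ A
        rwa [MonoidHom.comap_bot, QuotientGroup.ker_mk', Subgroup.relIndex_bot_left] at h2
      have hcop : (Nat.card Nj).Coprime Nj.index := by
        rw [hcN, hind, hc]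
        exact Nat.Coprime.pow_left _ (hp.out.coprime_iff_not_dvd.2 a1)
      obtain ⟨H₀, hH₀⟩ := Subgroup.exists_right_complement'_of_coprime hcop
      have hsolNj : Group.IsSolvable Nj :=
        Group.isSolvable_of_isSolvable_injective (f := (Subgroup.subgroupOfEquivOfLe hNA).toMonoidHom) (Subgroup.subgroupOfEquivOfLe hNA).injective
      set H₁ := H₀.map A'.subtype with hH₁
      have hsup : N ⊔ Subgroup.normalizer (H₁ : Set G) = ⊤ := by
        refine top_le_iff.1 fun g _ => ?_
        let e : A' ≃* A' := MulAut.conjNormal g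
        have hK : Subgroup.IsComplement' Nj (H₀.map e.toMonoidHom) := by
          refine H19.isComplement'_of_card_eq_index hcop ?_
          rw [Subgroup.card_map_of_injective (f := e.toMonoidHom) e.injective]
          exact H19.card_eq_index_of_isComplement' hH₀
        obtain ⟨m, hm, hme⟩ := H19.sz_conj Nj hcop (Or.inl hsolNj) hH₀ hK
        have h1 : MulAut.conj ((m : G)) • H₁ = MulAut.conj g • H₁ := by
          have h2 := congrArg (Subgroup.map A'.subtype) hme
          have el : (MulAut.conj m • H₀).map A'.subtype = MulAut.conj ((m : G)) • H₁ := by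
            ext x
            constructor
            · rintro ⟨_, ⟨a, ha, rfl⟩, rfl⟩
              exact ⟨_, ⟨a, ha, rfl⟩, by simp⟩
            · rintro ⟨_, ⟨a, ha, rfl⟩, rfl⟩
              exact ⟨_, ⟨a, ha, rfl⟩, by simp⟩
          have er : (H₀.map e.toMonoidHom).map A'.subtype = MulAut.conj g • H₁ := by
            ext x
            constructor
            · rintro ⟨_, ⟨a, ha, rfl⟩, rfl⟩
              exact ⟨_, ⟨a, ha, rfl⟩, by simp [e, MulAut.conjNormal_apply]⟩
            · rintro ⟨_, ⟨a, ha, rfl⟩, rfl⟩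
              exact ⟨_, ⟨a, ha, rfl⟩, by simp [e, MulAut.conjNormal_apply]⟩
          rw [← el, ← er]; exact h2
        have h3 : (m : G)⁻¹ * g ∈ Subgroup.normalizer (H₁ : Set G) := by
          refine Subgroup.mem_normalizer_iff.2 fun x => ?_
          have h4 : MulAut.conj ((m : G)⁻¹ * g) • H₁ = H₁ := by
            rw [map_mul, mul_smul, ← h1, ← mul_smul, ← map_mul, inv_mul_cancel, map_one, one_smul]
          conv_rhs => rw [← h4]
          exact (Subgroup.smul_mem_pointwise_smul_iff (a := MulAut.conj ((m : G)⁻¹ * g))).symm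
        simpa using Subgroup.mul_mem _ (Subgroup.mem_sup_left (T := Subgroup.normalizer (H₁ : Set G)) (show (m : G) ∈ N from hm))
          (Subgroup.mem_sup_right (S := N) h3)
      have htop : Subgroup.normalizer (H₁ : Set G) = ⊤ := by
        refine frattini_nongenerating (top_le_iff.1 (hsup ▸ sup_le ?_ le_sup_left))
        exact hΦ.trans le_sup_right
      have hH₁n : H₁.Normal := Subgroup.normalizer_eq_top_iff.1 htop
      have hH0 : H₁ = ⊥ := by
        by_contra h
        have h1 := Subgroup.card_dvd_of_le (huniq _ hH₁n h)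
        rw [hc, hH₁, Subgroup.card_map_of_injective A'.subtype_injective,
          H19.card_eq_index_of_isComplement' hH₀, hind] at h1
        have h2 : 1 < Nat.card N := (Subgroup.one_lt_card_iff_ne_bot N).2 hN0
        rw [hc] at h2
        rcases c with _ | c
        · simp at h2
        · exact a1 ((dvd_pow_self p c.succ_ne_zero).trans h1)
      rw [hH₁, Subgroup.map_eq_bot_iff_of_injective _ A'.subtype_injective] at hH0
      apply Subgroup.eq_bot_of_card_eq
      rw [← hind, ← H19.card_eq_index_of_isComplement' hH₀, hH0, Subgroup.card_bot]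
    refine ⟨⊥, B.comap f, C.comap f, D.comap f, inferInstance, inferInstance, inferInstance,
      inferInstance, bot_le, Subgroup.comap_mono hBC, Subgroup.comap_mono hCD, by simp [hp.out.ne_one],
      ?_, hrel B C ▸ a3, hrel C D ▸ a4, ?_, fun h2 => by rw [a6 h2, Subgroup.comap_top]⟩
    · obtain ⟨k, hk⟩ := a2
      refine ⟨c + k, ?_⟩
      rw [hA0, Subgroup.relIndex_bot_left] at hk
      rw [Subgroup.relIndex_bot_left, hcard, hc, hk, pow_add]
    · rwa [Subgroup.index_comap_of_surjective D hf]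
  -- a complement
  obtain ⟨M, hM, hNM⟩ : ∃ M : Subgroup G, IsCoatom M ∧ ¬ N ≤ M := by
    by_contra h
    push Not at h
    exact hΦ (le_iInf₂ fun M hM => h M hM)
  have hNMtop : N ⊔ M = ⊤ := hM.2 _ (lt_of_le_of_ne le_sup_right fun e => hNM (e.symm ▸ le_sup_left))
  have hinter : N ⊓ M = ⊥ := by
    refine (hmin _ ?_ inf_le_left).resolve_right fun e => hNM (e ▸ inf_le_right)
    refine Subgroup.normalizer_eq_top_iff.1 (top_le_iff.1 (hNMtop ▸ sup_le (fun x hx => ?_) fun x hx => ?_))
    · refine Subgroup.mem_normalizer_iff.2 fun y => ?_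
      constructor
      · intro hy
        have : x * y * x⁻¹ = y := by
          rw [show x * y = y * x from congrArg Subtype.val (hNc.1.1 ⟨x, hx⟩ ⟨y, hy.1⟩), mul_inv_cancel_right]
        rwa [this]
      · intro hy
        have hy' : y ∈ N := by simpa [mul_assoc] using hNn.conj_mem _ hy.1 x⁻¹
        have : x * y * x⁻¹ = y := by
          rw [show x * y = y * x from congrArg Subtype.val (hNc.1.1 ⟨x, hx⟩ ⟨y, hy'⟩), mul_inv_cancel_right]
        rwa [this] at hy
    · refine Subgroup.mem_normalizer_iff.2 fun y => ?_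
      constructor
      · exact fun hy => ⟨hNn.conj_mem y hy.1 x, M.mul_mem (M.mul_mem hx hy.2) (M.inv_mem hx)⟩
      · intro hy
        have h1 := hNn.conj_mem _ hy.1 x⁻¹
        have h2 := M.mul_mem (M.mul_mem (M.inv_mem hx) hy.2) hx
        exact ⟨by simpa [mul_assoc] using h1, (by simpa [mul_assoc] using h2)⟩
  have hcomp : Subgroup.IsComplement' N M :=
    Subgroup.isComplement'_of_disjoint_and_mul_eq_univ (disjoint_iff.2 hinter) (by
      rw [← Subgroup.normal_mul, hNMtop]; rfl)
  have hindex : M.index = Nat.card N := hcomp.index_eq_card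
  rcases hmax M hM with ⟨K, hK, hKp, k, hk⟩ | hi
  · haveI := hK
    set C' := N ⊔ K.map M.subtype with hC'
    have hKM : K.map M.subtype ≤ M := Subgroup.map_subtype_le K
    haveI hC'n : C'.Normal := by
      refine Subgroup.normalizer_eq_top_iff.1 (top_le_iff.1 (hNMtop ▸ sup_le ?_ fun x hx => ?_))
      · exact (le_sup_left : N ≤ C').trans Subgroup.le_normalizer
      · have key : ∀ x ∈ M, C' ≤ C'.comap (MulAut.conj x).toMonoidHom := by
          intro x hx
          refine sup_le (fun y hy => Subgroup.mem_sup_left (hNn.conj_mem y hy x)) ?_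
          rintro _ ⟨y, hy, rfl⟩
          exact Subgroup.mem_sup_right ⟨⟨x, hx⟩ * y * ⟨x, hx⟩⁻¹, hK.conj_mem y hy _, by simp⟩
        refine Subgroup.mem_normalizer_iff.2 fun y => ⟨fun hy => key x hx hy, fun hy => ?_⟩
        have := key x⁻¹ (M.inv_mem hx) hy
        simpa [mul_assoc] using this
    have h1 : N.relIndex C' = Nat.card K := by
      rw [hC', Subgroup.relIndex_sup_left, ← Subgroup.inf_relIndex_right,
        show N ⊓ K.map M.subtype = ⊥ from le_bot_iff.1 (hinter ▸ inf_le_inf_left N hKM),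
        Subgroup.relIndex_bot_left, Subgroup.card_map_of_injective M.subtype_injective]
    have hC'i : C'.index = p ^ k := by
      have h2 := Subgroup.relIndex_mul_index (le_sup_left : N ≤ C')
      have h3 := hcomp.symm.index_eq_card
      rw [h1, h3, ← K.card_mul_index, hk] at h2
      exact Nat.eq_of_mul_eq_mul_left Nat.card_pos h2
    refine ⟨⊥, N, C', ⊤, inferInstance, hNn, hC'n, inferInstance, bot_le, le_sup_left, le_top,
      by simp [hp.out.ne_one], ⟨c, by rw [Subgroup.relIndex_bot_left, hc]⟩, h1 ▸ hKp,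
      ⟨k, by rw [Subgroup.relIndex_top_right, hC'i]⟩, by simp [hp.out.ne_one], fun _ => rfl⟩
  · have hcard1 : Nat.card N = p := by
      rw [hindex, hc] at hi
      rw [hc, hi.pow_eq_iff.1 rfl |>.2, pow_one]
    -- `M` acts faithfully on `N`
    have hCN : Subgroup.centralizer (N : Set G) ⊓ M = ⊥ := by
      by_contra h
      refine hNM ((huniq _ ?_ h).trans inf_le_right)
      refine Subgroup.normalizer_eq_top_iff.1 (top_le_iff.1 (hNMtop ▸ sup_le (fun x hx => ?_) fun x hx => ?_))
      · refine Subgroup.mem_normalizer_iff.2 fun y => ?_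
        constructor
        · intro hy
          rwa [show x * y = y * x from (Subgroup.mem_centralizer_iff.1 hy.1 x hx), mul_inv_cancel_right]
        · intro hy
          have e := Subgroup.mem_centralizer_iff.1 hy.1 x hx
          have : x * y * x⁻¹ = y := by
            calc x * y * x⁻¹ = x⁻¹ * (x * (x * y * x⁻¹)) := by group
              _ = x⁻¹ * ((x * y * x⁻¹) * x) := by rw [e]
              _ = y := by group
          rwa [this] at hy
      · haveI : (Subgroup.centralizer (N : Set G)).Normal := Subgroup.normal_centralizer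
        refine Subgroup.mem_normalizer_iff.2 fun y => ?_
        constructor
        · exact fun hy => ⟨Subgroup.Normal.conj_mem ‹_› y hy.1 x, M.mul_mem (M.mul_mem hx hy.2) (M.inv_mem hx)⟩
        · intro hy
          have h1 := Subgroup.Normal.conj_mem (H := Subgroup.centralizer (N : Set G)) ‹_› _ hy.1 x⁻¹
          have h2 := M.mul_mem (M.mul_mem (M.inv_mem hx) hy.2) hx
          exact ⟨by simpa [mul_assoc] using h1, (by simpa [mul_assoc] using h2)⟩
    let φ : M →* MulAut N := MulAut.conjNormal.comp M.subtype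
    have hφ : Function.Injective φ := by
      rw [← MonoidHom.ker_eq_bot_iff, eq_bot_iff]
      intro x hx
      rw [MonoidHom.mem_ker] at hx
      have : (x : G) ∈ Subgroup.centralizer (N : Set G) ⊓ M := by
        refine ⟨Subgroup.mem_centralizer_iff.2 fun y hy => ?_, x.2⟩
        have := congrArg (fun σ : MulAut N => ((σ ⟨y, hy⟩ : N) : G)) hx
        simp only [φ, MonoidHom.comp_apply, Subgroup.subtype_apply, MulAut.conjNormal_apply, MulAut.one_apply] at this
        exact (mul_inv_eq_iff_eq_mul.1 this).symm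
      rw [hCN, Subgroup.mem_bot] at this
      exact Subgroup.mem_bot.2 (Subtype.ext this)
    haveI : IsCyclic N := isCyclic_of_prime_card hcard1
    have hdvd : Nat.card M ∣ p - 1 := by
      have := Subgroup.card_dvd_of_injective φ hφ
      rwa [IsCyclic.card_mulAut, hcard1, Nat.totient_prime hp.out] at this
    have h2 := hp.out.two_le
    refine ⟨⊥, N, ⊤, ⊤, inferInstance, hNn, inferInstance, inferInstance, bot_le, le_top, le_rfl,
      by simp [hp.out.ne_one], ⟨1, by rw [Subgroup.relIndex_bot_left, hcard1, pow_one]⟩, ?_,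
      ⟨0, by rw [Subgroup.relIndex_self, pow_zero]⟩, by simp [hp.out.ne_one], fun _ => rfl⟩
    rw [Subgroup.relIndex_top_right, hcomp.symm.index_eq_card]
    intro hd
    have := Nat.le_of_dvd (by omega) (hd.trans hdvd)
    omega

end Cfsg.Agent.H91.LengthTwo
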