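import Cfsg.Agent.H91.Small.ExtraspecialCount
import Mathlib

/-!
The extraspecial group of order 32 of minus type: five cosets of involutions and its automorphisms.
-/

namespace Cfsg.Agent.H91.MinusFive

open scoped Pointwise
open scoped commutatorElement

/-- Involutions with commutators in a central subgroup `⟨c⟩` of order two generate a small group. -/
theorem card_closure_le {G : Type*} [Group G] [Finite G] (c : G) (hc : c ∈ Subgroup.center G)
    (hc2 : c ^ 2 = 1) : ∀ (n : ℕ) (g : Fin n → G), (∀ i, g i ^ 2 = 1) →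
    (∀ i j, ⁅g i, g j⁆ ∈ Subgroup.zpowers c) →
    Nat.card ↥(Subgroup.closure (Set.range g ∪ {c})) ≤ 2 ^ (n + 1) := by
  have hord : ∀ x : G, x ^ 2 = 1 → Nat.card (Subgroup.zpowers x) ≤ 2 := fun x hx => by
    rw [Nat.card_zpowers]; exact Nat.le_of_dvd two_pos (orderOf_dvd_of_pow_eq_one hx)
  intro n
  induction n with
  | zero =>
    intro g _ _
    rw [Set.range_eq_empty, Set.empty_union, ← Subgroup.zpowers_eq_closure]
    simpa using hord c hc2
  | succ n ih =>
    intro g hg hcomm
    set X := Subgroup.closure (Set.range (g ∘ Fin.castSucc) ∪ {c}) with hX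
    set x := g (Fin.last n) with hxdef
    have hcX : c ∈ X := Subgroup.subset_closure (Or.inr rfl)
    have hzX : Subgroup.zpowers c ≤ X := Subgroup.zpowers_le.2 hcX
    have key : ∀ u ∈ X, x * u * x⁻¹ ∈ X := by
      suffices X ≤ X.comap (MulAut.conj x).toMonoidHom from fun u hu => this hu
      rw [hX, Subgroup.closure_le]
      rintro u (⟨i, rfl⟩ | rfl)
      · show x * g i.castSucc * x⁻¹ ∈ X
        have e : x * g i.castSucc * x⁻¹ = ⁅x, g i.castSucc⁆ * g i.castSucc := by
          simp [commutatorElement_def]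
        rw [e]
        exact X.mul_mem (hzX (hcomm _ _)) (Subgroup.subset_closure (Or.inl ⟨i, rfl⟩))
      · show x * u * x⁻¹ ∈ X
        rw [Subgroup.mem_center_iff.1 hc x, mul_inv_cancel_right]; exact hcX
    have hxi : x⁻¹ = x := inv_eq_of_mul_eq_one_right (by rw [← pow_two]; exact hg _)
    have hnorm : Subgroup.zpowers x ≤ Subgroup.normalizer (X : Set G) := by
      rw [Subgroup.zpowers_le]
      refine Subgroup.mem_normalizer_iff.2 fun u => ⟨key u, fun hu => ?_⟩
      have := key _ hu
      have hxx : x * x = 1 := by rw [← pow_two]; exact hg _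
      rw [show x * (x * u * x⁻¹) * x⁻¹ = (x * x) * u * (x * x)⁻¹ by group, hxx] at this
      simpa using this
    have hsub : Subgroup.closure (Set.range g ∪ {c}) ≤ Subgroup.zpowers x ⊔ X := by
      rw [Subgroup.closure_le]
      rintro u (⟨i, rfl⟩ | rfl)
      · induction i using Fin.lastCases with
        | last => exact Subgroup.mem_sup_left (Subgroup.mem_zpowers x)
        | cast i => exact Subgroup.mem_sup_right (Subgroup.subset_closure (Or.inl ⟨i, rfl⟩))
      · exact Subgroup.mem_sup_right hcX
    refine (Subgroup.card_le_of_le hsub).trans ?_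
    have h1 : Nat.card ↥(Subgroup.zpowers x ⊔ X) ≤ Nat.card (Subgroup.zpowers x) * Nat.card X := by
      have e := Subgroup.coe_mul_of_left_le_normalizer_right _ _ hnorm
      calc Nat.card ↥(Subgroup.zpowers x ⊔ X)
          = Nat.card ↥((Subgroup.zpowers x : Set G) * (X : Set G)) := by rw [← e]; rfl
        _ ≤ _ := Set.natCard_mul_le
    refine h1.trans ?_
    rw [pow_succ, mul_comm (2 ^ (n + 1)) 2]
    exact Nat.mul_le_mul (hord x (hg _)) (ih _ (fun i => hg _) fun i j => hcomm _ _)

variable {P : Type*} [Group P] [Finite P]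

/-- The data of minus type. -/
structure Setting (P : Type*) [Group P] [Finite P] : Prop where
  hex : Cfsg.IsExtraspecial 2 P
  h32 : Nat.card P = 32
  hminus : ∀ A : Subgroup P, Cfsg.IsElementaryAbelian 2 A → Nat.card ↥A ≤ 4

/-- The cosets of the centre made of non-central involutions. -/
abbrev Pt (P : Type*) [Group P] :=
  {q : P ⧸ Subgroup.center P // q ≠ 1 ∧ ∀ x : P, (x : P ⧸ Subgroup.center P) = q → x ^ 2 = 1}

theorem sq_central (h : Setting P) {w : P} (hw : w ∈ Subgroup.center P) : w ^ 2 = 1 :=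
  H24.pow_eq_one_of_card_eq h.hex.2 hw

theorem sq_congr (h : Setting P) {x y : P} (e : (x : P ⧸ Subgroup.center P) = y) : x ^ 2 = y ^ 2 := by
  obtain ⟨w, hw, rfl⟩ : ∃ w ∈ Subgroup.center P, y = x * w :=
    ⟨x⁻¹ * y, QuotientGroup.eq.1 e, by group⟩
  rw [(show Commute x w from Subgroup.mem_center_iff.1 hw x).mul_pow, sq_central h hw, mul_one]

/-- A lift of a point. -/
noncomputable def lift (q : Pt P) : P := Classical.choose (QuotientGroup.mk_surjective q.1)

theorem mk_lift (q : Pt P) : ((lift q : P) : P ⧸ Subgroup.center P) = q.1 :=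
  Classical.choose_spec (QuotientGroup.mk_surjective q.1)

theorem lift_sq (q : Pt P) : lift q ^ 2 = 1 := q.2.2 _ (mk_lift q)

theorem lift_notMem (q : Pt P) : lift q ∉ Subgroup.center P := fun h =>
  q.2.1 (mk_lift q ▸ (QuotientGroup.eq_one_iff _).2 h)

theorem card_pt (h : Setting P) : Nat.card (Pt P) = 5 := by
  classical
  -- there are twelve elements of square one
  obtain ⟨a, b, n, p, q⟩ := H24.exists_dihedral_pair h.hex h.h32.ge
  obtain ⟨hZ, hA, hsup, hinf, hc, he⟩ := H24.espec_split h.hex n
  set C := Subgroup.centralizer (Subgroup.closure ({a, b} : Set P) : Set P)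
  have hC8 : Nat.card C = 8 := by rw [h.h32] at hc; omega
  have hcntC : ExtraspecialCount.cnt C = 2 := by
    have hz : ∀ c ∈ C, c ^ 2 = 1 → c ∈ Subgroup.center P := by
      intro c hc hc2
      by_contra hcZ
      obtain ⟨z, hz, hz1⟩ := H24.espec_exists_center h.hex
      set T := Subgroup.closure (Set.range ![a, c] ∪ {z})
      have hac : Commute a c := hc a (Subgroup.subset_closure (Set.mem_insert _ _))
      have hel : Cfsg.IsElementaryAbelian 2 T := by
        have hgen : ∀ x ∈ Set.range ![a, c] ∪ {z}, x ^ 2 = 1 ∧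
            ∀ y ∈ Set.range ![a, c] ∪ {z}, Commute x y := by
          have hzc : ∀ x, Commute z x := fun x => (Subgroup.mem_center_iff.1 hz x).symm
          rintro x (⟨i, rfl⟩ | rfl)
          · refine ⟨by fin_cases i <;> simp [p, hc2], ?_⟩
            rintro y (⟨j, rfl⟩ | rfl)
            · fin_cases i <;> fin_cases j <;> simp [hac, hac.symm]
            · exact (hzc _).symm
          · exact ⟨sq_central h hz, fun y _ => hzc y⟩
        haveI hTc : IsMulCommutative T := Subgroup.isMulCommutative_closure fun x hx y hy =>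
          ((hgen x hx).2 y hy).eq
        refine ⟨hTc, fun x hx => ?_⟩
        induction hx using Subgroup.closure_induction with
        | mem x hx => exact (hgen x hx).1
        | one => simp
        | mul x y hx hy ihx ihy =>
          have : Commute x y := congrArg Subtype.val (hTc.1.1 ⟨x, hx⟩ ⟨y, hy⟩)
          rw [this.mul_pow, ihx, ihy, one_mul]
        | inv x hx ihx => rw [inv_pow, ihx, inv_one]
      have haT : a ∈ T := Subgroup.subset_closure (Or.inl ⟨0, rfl⟩)
      have hcT : c ∈ T := Subgroup.subset_closure (Or.inl ⟨1, rfl⟩)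
      have hzT : Subgroup.center P ≤ T := by
        rw [← H24.zpowers_eq_of_card_prime h.hex.2 hz hz1, Subgroup.zpowers_le]
        exact Subgroup.subset_closure (Or.inr rfl)
      -- `T` has at least eight elements
      have haZ : a ∉ Subgroup.center P := fun ha => n (commutatorElement_eq_one_iff_mul_comm.2
        (Subgroup.mem_center_iff.1 ha b).symm)
      have hTA : c ∉ Subgroup.closure ({a, b} : Set P) := fun hcA => hcZ (hinf ▸ ⟨hcA, hc⟩)
      set S := Subgroup.center P ⊔ Subgroup.zpowers a
      have hST : S < T := lt_of_le_of_ne (sup_le hzT (Subgroup.zpowers_le.2 haT)) fun e => hTA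
        ((sup_le hZ (Subgroup.zpowers_le.2 (Subgroup.subset_closure (Set.mem_insert _ _)))) (e.ge hcT))
      have hZS : Subgroup.center P < S := lt_of_le_of_ne le_sup_left fun e => haZ
        (e.symm ▸ Subgroup.mem_sup_right (Subgroup.mem_zpowers a))
      have h2 : ∀ A B : Subgroup P, A < B → 2 * Nat.card A ≤ Nat.card B := by
        intro A B hAB
        obtain ⟨k, hk⟩ := Subgroup.card_dvd_of_le hAB.le
        have hlt : Nat.card A < Nat.card B := lt_of_le_of_ne (Subgroup.card_le_of_le hAB.le)
          fun e => hAB.ne (Subgroup.eq_of_le_of_card_ge hAB.le e.ge)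
        rw [hk] at hlt ⊢
        rw [mul_comm 2]
        refine Nat.mul_le_mul_left _ ?_
        rcases k with _ | _ | k
        · simp at hlt
        · simp at hlt
        · omega
      have := h2 _ _ hST
      have := h2 _ _ hZS
      have := h.hminus T hel
      rw [h.hex.2] at *
      omega
    let e : {x : C // x ^ 2 = 1} ≃ Subgroup.center P :=
      { toFun := fun x => ⟨(x.1 : P), hz _ x.1.2 (by simpa using congrArg Subtype.val x.2)⟩
        invFun := fun w => ⟨⟨w, Subgroup.center_le_centralizer _ w.2⟩,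
          Subtype.ext (by simpa using sq_central h w.2)⟩
        left_inv := fun x => rfl
        right_inv := fun w => rfl }
    rw [ExtraspecialCount.cnt, Nat.card_congr e, h.hex.2]
  have h12 : ExtraspecialCount.cnt P = 12 := by
    rw [ExtraspecialCount.cnt_split h.hex n p q, hcntC, hC8]
  let S : P ⧸ Subgroup.center P → Prop := fun q => ∀ x : P, (x : P ⧸ Subgroup.center P) = q → x ^ 2 = 1
  have hS : ∀ x : P, S x ↔ x ^ 2 = 1 := fun x =>
    ⟨fun hx => hx x rfl, fun hx y e => (sq_congr h e).trans hx⟩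
  have hpre := ExtraspecialCount.card_preimage (QuotientGroup.mk' (Subgroup.center P))
    (QuotientGroup.mk'_surjective _) S
  rw [QuotientGroup.ker_mk', h.hex.2, Nat.card_congr ((Equiv.subtypeEquivRight fun x => hS x) :
    {x : P // S (QuotientGroup.mk' (Subgroup.center P) x)} ≃ {x : P // x ^ 2 = 1})] at hpre
  rw [ExtraspecialCount.cnt] at h12
  have h1 : Nat.card {q // S q} = Nat.card (Pt P) + 1 := by
    have hs1 : (1 : P ⧸ Subgroup.center P) ∈ {q | S q} := by
      show S ((1 : P) : P ⧸ Subgroup.center P)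
      rw [hS]; simp
    have := Set.ncard_diff_singleton_add_one hs1 (Set.toFinite _)
    rw [← Nat.card_coe_set_eq, ← Nat.card_coe_set_eq] at this
    refine this.symm.trans (congrArg (· + 1) (Nat.card_congr (Equiv.subtypeEquivRight fun q => ?_)))
    exact ⟨fun hq => ⟨hq.2, hq.1⟩, fun hq => ⟨hq.2, hq.1⟩⟩
  omega

/-- Lifts of distinct points do not commute. -/
theorem comm_lift (h : Setting P) {z : P} (hz : z ∈ Subgroup.center P) (hz1 : z ≠ 1) {u v : P}
    (hu : u ∉ Subgroup.center P) (hv : v ∉ Subgroup.center P) (hu2 : u ^ 2 = 1) (hv2 : v ^ 2 = 1)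
    (huv : (u : P ⧸ Subgroup.center P) ≠ v) : ⁅u, v⁆ = z := by
  have hmem := H24.espec_comm_mem h.hex u v
  rw [← H24.zpowers_eq_of_card_prime h.hex.2 hz hz1] at hmem
  obtain ⟨k, hk⟩ := Subgroup.mem_zpowers_iff.1 hmem
  have hz2 := sq_central h hz
  rcases Int.even_or_odd k with ⟨r, rfl⟩ | ⟨r, rfl⟩
  · exfalso
    rw [← two_mul, zpow_mul, zpow_ofNat, hz2, one_zpow] at hk
    have hac : Commute u v := commutatorElement_eq_one_iff_commute.1 hk.symm
    let T := Subgroup.closure ({u, v, z} : Set P)
    haveI hTc : IsMulCommutative T := by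
      refine Subgroup.isMulCommutative_closure ?_
      have hzc : ∀ x, x * z = z * x := fun x => Subgroup.mem_center_iff.1 hz x
      intro x hx y hy
      simp only [Set.mem_insert_iff, Set.mem_singleton_iff] at hx hy
      rcases hx with rfl | rfl | rfl <;> rcases hy with rfl | rfl | rfl <;>
        first | rfl | exact hac.eq | exact hac.eq.symm | exact hzc _ | exact (hzc _).symm
    have hel : Cfsg.IsElementaryAbelian 2 T := by
      refine ⟨hTc, fun x hx => ?_⟩
      induction hx using Subgroup.closure_induction with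
      | mem x hx => rcases hx with rfl | rfl | rfl <;> assumption
      | one => simp
      | mul x y hx hy ihx ihy =>
        have : Commute x y := congrArg Subtype.val (hTc.1.1 ⟨x, hx⟩ ⟨y, hy⟩)
        rw [this.mul_pow, ihx, ihy, one_mul]
      | inv x hx ihx => rw [inv_pow, ihx, inv_one]
    -- eight elements
    let F : Fin 2 × Fin 2 × Subgroup.center P → T := fun i =>
      ⟨u ^ (i.1 : ℕ) * v ^ (i.2.1 : ℕ) * i.2.2, by
        refine T.mul_mem (T.mul_mem (T.pow_mem (Subgroup.subset_closure (by simp)) _)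
          (T.pow_mem (Subgroup.subset_closure (by simp)) _)) ?_
        have : Subgroup.center P ≤ T := by
          rw [← H24.zpowers_eq_of_card_prime h.hex.2 hz hz1, Subgroup.zpowers_le]
          exact Subgroup.subset_closure (by simp)
        exact this i.2.2.2⟩
    have hF : Function.Injective F := by
      have h1 : (u : P ⧸ Subgroup.center P) ≠ 1 := fun e => hu ((QuotientGroup.eq_one_iff u).1 e)
      have h2 : (v : P ⧸ Subgroup.center P) ≠ 1 := fun e => hv ((QuotientGroup.eq_one_iff v).1 e)
      have h3 : (u : P ⧸ Subgroup.center P) * v ≠ 1 := fun e => huv (by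
        rw [mul_eq_one_iff_eq_inv.1 e, ← QuotientGroup.mk_inv, inv_eq_of_mul_eq_one_right (pow_two v ▸ hv2)])
      rintro ⟨i, j, w⟩ ⟨i', j', w'⟩ e
      have e1 := congrArg Subtype.val e
      have e2 := congrArg (fun x : P => (x : P ⧸ Subgroup.center P)) e1
      simp only [F, QuotientGroup.mk_mul, QuotientGroup.mk_pow, (QuotientGroup.eq_one_iff _).2 w.2,
        (QuotientGroup.eq_one_iff _).2 w'.2, mul_one] at e2
      fin_cases i <;> fin_cases i' <;> fin_cases j <;> fin_cases j' <;>
        simp [h1, h2, h3, h1.symm, h2.symm, h3.symm, huv, huv.symm] at e2 <;>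
        simpa [F] using e1
    have h8 := Nat.card_le_card_of_injective F hF
    rw [Nat.card_prod, Nat.card_prod, h.hex.2, Nat.card_fin] at h8
    have := h.hminus T hel
    omega
  · rw [← hk, zpow_add, zpow_mul, zpow_ofNat, hz2, one_zpow, one_mul, zpow_one]

/-- Four lifts generate the group. -/
theorem closure_eq_top (h : Setting P) {z : P} (hz : z ∈ Subgroup.center P) (hz1 : z ≠ 1)
    (t : Fin 4 → P) (hcomm : ∀ i j, i ≠ j → ⁅t i, t j⁆ = z) :
    Subgroup.closure (Set.range t) = ⊤ := by
  classical
  set X := Subgroup.closure (Set.range t)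
  have hz2 := sq_central h hz
  have hzi : z⁻¹ = z := inv_eq_of_mul_eq_one_right (by rw [← pow_two, hz2])
  -- the sixteen products are independent modulo the centre
  let w : (Fin 4 → Fin 2) → P := fun f => t 0 ^ (f 0 : ℕ) * t 1 ^ (f 1 : ℕ) * t 2 ^ (f 2 : ℕ) * t 3 ^ (f 3 : ℕ)
  let χ : Fin 4 → P →* Subgroup.center P := fun i =>
    { toFun := fun x => ⟨⁅t i, x⁆, H24.espec_comm_mem h.hex _ _⟩
      map_one' := Subtype.ext (commutatorElement_one_right _)
      map_mul' := fun x y => Subtype.ext (H24.comm_mul_right (H24.espec_comm_mem h.hex _ _)) }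
  have hχt : ∀ i j, ((χ i (t j) : Subgroup.center P) : P) = z ^ (if i = j then 0 else 1) := by
    intro i j
    show ⁅t i, t j⁆ = _
    by_cases hij : i = j
    · rw [if_pos hij, pow_zero, hij, commutatorElement_self]
    · rw [if_neg hij, pow_one, hcomm i j hij]
  have hχw : ∀ i f, ((χ i (w f) : Subgroup.center P) : P) =
      z ^ (∑ j : Fin 4, (if i = j then 0 else 1) * (f j : ℕ)) := by
    intro i f
    simp only [w, map_mul, map_pow, Subgroup.coe_mul, SubgroupClass.coe_pow, hχt, ← pow_mul, ← pow_add,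
      Fin.sum_univ_four]
  have hinj : Function.Injective fun f => (w f : P ⧸ Subgroup.center P) := by
    intro f g e
    obtain ⟨c, hc, hfg⟩ : ∃ c ∈ Subgroup.center P, w g = w f * c :=
      ⟨(w f)⁻¹ * w g, QuotientGroup.eq.1 e, by group⟩
    have hmod : ∀ i, (∑ j : Fin 4, (if i = j then 0 else 1) * (f j : ℕ)) % 2 =
        (∑ j : Fin 4, (if i = j then 0 else 1) * (g j : ℕ)) % 2 := by
      intro i
      have e1 : ((χ i (w g) : Subgroup.center P) : P) = χ i (w f) := by
        rw [hfg, map_mul, Subgroup.coe_mul]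
        show _ * ⁅t i, c⁆ = _
        rw [commutatorElement_eq_one_iff_mul_comm.2 (Subgroup.mem_center_iff.1 hc (t i)), mul_one]
      rw [hχw, hχw, pow_inj_mod, orderOf_eq_prime hz2 hz1] at e1
      exact e1.symm
    simp only [Fin.sum_univ_four] at hmod
    have h0 := hmod 0
    have h1 := hmod 1
    have h2 := hmod 2
    have h3 := hmod 3
    simp at h0 h1 h2 h3
    have hf0 := (f 0).isLt
    have hf1 := (f 1).isLt
    have hf2 := (f 2).isLt
    have hf3 := (f 3).isLt
    have hg0 := (g 0).isLt
    have hg1 := (g 1).isLt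
    have hg2 := (g 2).isLt
    have hg3 := (g 3).isLt
    funext i
    match i with
    | 0 => apply Fin.ext; omega
    | 1 => apply Fin.ext; omega
    | 2 => apply Fin.ext; omega
    | 3 => apply Fin.ext; omega
  have hzX : Subgroup.center P ≤ X := by
    rw [← H24.zpowers_eq_of_card_prime h.hex.2 hz hz1, Subgroup.zpowers_le, ← hcomm 0 1 (by decide),
      commutatorElement_def]
    have := fun i : Fin 4 => (Subgroup.subset_closure (Set.mem_range_self i) : t i ∈ X)
    exact X.mul_mem (X.mul_mem (X.mul_mem (this 0) (this 1)) (X.inv_mem (this 0))) (X.inv_mem (this 1))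
  have hwX : ∀ f, w f ∈ X := fun f => by
    have := fun i : Fin 4 => X.pow_mem (Subgroup.subset_closure (Set.mem_range_self i) : t i ∈ X) (f i)
    exact X.mul_mem (X.mul_mem (X.mul_mem (this 0) (this 1)) (this 2)) (this 3)
  let F : (Fin 4 → Fin 2) × Subgroup.center P → X := fun q =>
    ⟨w q.1 * q.2, X.mul_mem (hwX _) (hzX q.2.2)⟩
  have hF : Function.Injective F := by
    rintro ⟨f, c⟩ ⟨g, d⟩ e
    have e1 : w f * c = w g * d := congrArg Subtype.val e
    have e2 := congrArg (fun x : P => (x : P ⧸ Subgroup.center P)) e1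
    simp only [QuotientGroup.mk_mul, (QuotientGroup.eq_one_iff _).2 c.2,
      (QuotientGroup.eq_one_iff _).2 d.2, mul_one] at e2
    have hfg : f = g := hinj e2
    subst hfg
    exact Prod.ext rfl (Subtype.ext (mul_left_cancel e1))
  refine Subgroup.eq_top_of_le_card _ ?_
  have h16 := Nat.card_le_card_of_injective F hF
  rw [Nat.card_prod, Nat.card_fun, h.hex.2] at h16
  rw [h.h32]
  simpa using h16

/-- Two quadruples of pairwise non-commuting involutions are related by an automorphism. -/
theorem exists_aut (h : Setting P) {z : P} (hz : z ∈ Subgroup.center P) (hz1 : z ≠ 1)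
    (t t' : Fin 4 → P) (ht : ∀ i, t i ^ 2 = 1) (ht' : ∀ i, t' i ^ 2 = 1)
    (hc : ∀ i j, i ≠ j → ⁅t i, t j⁆ = z) (hc' : ∀ i j, i ≠ j → ⁅t' i, t' j⁆ = z) :
    ∃ φ : MulAut P, ∀ i, φ (t i) = t' i := by
  set g : Fin 4 → P × P := fun i => (t i, t' i)
  set D := Subgroup.closure (Set.range g ∪ {(z, z)})
  have hD : Nat.card D ≤ 32 := by
    refine card_closure_le (z, z) (Subgroup.mem_center_iff.2 fun q => Prod.ext
      (Subgroup.mem_center_iff.1 hz q.1) (Subgroup.mem_center_iff.1 hz q.2))
      (Prod.ext (sq_central h hz) (sq_central h hz)) 4 g (fun i => Prod.ext (ht i) (ht' i)) fun i j => ?_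
    by_cases hij : i = j
    · rw [hij, commutatorElement_self]; exact Subgroup.one_mem _
    · rw [show ⁅g i, g j⁆ = (⁅t i, t j⁆, ⁅t' i, t' j⁆) from rfl, hc i j hij, hc' i j hij]
      exact Subgroup.mem_zpowers _
  have hgD : ∀ i, g i ∈ D := fun i => Subgroup.subset_closure (Or.inl ⟨i, rfl⟩)
  let π₁ : D →* P := (MonoidHom.fst P P).comp D.subtype
  let π₂ : D →* P := (MonoidHom.snd P P).comp D.subtype
  have hs₁ : Function.Surjective π₁ := by
    rw [← MonoidHom.range_eq_top, ← top_le_iff, ← closure_eq_top h hz hz1 t hc, Subgroup.closure_le]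
    rintro _ ⟨i, rfl⟩
    exact ⟨⟨g i, hgD i⟩, rfl⟩
  have hs₂ : Function.Surjective π₂ := by
    rw [← MonoidHom.range_eq_top, ← top_le_iff, ← closure_eq_top h hz hz1 t' hc', Subgroup.closure_le]
    rintro _ ⟨i, rfl⟩
    exact ⟨⟨g i, hgD i⟩, rfl⟩
  have b₁ : Function.Bijective π₁ := hs₁.bijective_of_nat_card_le (h.h32 ▸ hD)
  have b₂ : Function.Bijective π₂ := hs₂.bijective_of_nat_card_le (h.h32 ▸ hD)
  refine ⟨(MulEquiv.ofBijective π₁ b₁).symm.trans (MulEquiv.ofBijective π₂ b₂), fun i => ?_⟩
  have e : (MulEquiv.ofBijective π₁ b₁).symm (t i) = ⟨g i, hgD i⟩ :=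
    (MulEquiv.symm_apply_eq _).2 rfl
  rw [MulEquiv.trans_apply, e]
  rfl

/-- The action of automorphisms on the cosets of the centre. -/
noncomputable def act (P : Type*) [Group P] : MulAut P →* MulAut (P ⧸ Subgroup.center P) where
  toFun φ := QuotientGroup.congr _ _ φ (Subgroup.characteristic_iff_map_eq.1 inferInstance φ)
  map_one' := MulEquiv.ext fun q => by
    obtain ⟨x, rfl⟩ := QuotientGroup.mk_surjective q; rfl
  map_mul' φ ψ := MulEquiv.ext fun q => by
    obtain ⟨x, rfl⟩ := QuotientGroup.mk_surjective q; rfl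

theorem act_mk (φ : MulAut P) (x : P) :
    act P φ (x : P ⧸ Subgroup.center P) = ((φ x : P) : P ⧸ Subgroup.center P) := rfl

theorem act_pt (φ : MulAut P) (q : P ⧸ Subgroup.center P)
    (hq : q ≠ 1 ∧ ∀ x : P, (x : P ⧸ Subgroup.center P) = q → x ^ 2 = 1) :
    act P φ q ≠ 1 ∧ ∀ x : P, (x : P ⧸ Subgroup.center P) = act P φ q → x ^ 2 = 1 := by
  refine ⟨fun e => hq.1 ((map_eq_one_iff _ (act P φ).injective).1 e), fun x hx => ?_⟩
  have h1 : ((φ.symm x : P) : P ⧸ Subgroup.center P) = q := (act P φ).injective (by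
    rw [act_mk, MulEquiv.apply_symm_apply, hx])
  have := congrArg φ (hq.2 _ h1)
  rwa [map_pow, MulEquiv.apply_symm_apply, map_one] at this

/-- The action on the five points. -/
noncomputable def perm (P : Type*) [Group P] [Finite P] : MulAut P →* Equiv.Perm (Pt P) where
  toFun φ :=
    { toFun := fun q => ⟨act P φ q.1, act_pt φ q.1 q.2⟩
      invFun := fun q => ⟨act P φ⁻¹ q.1, act_pt φ⁻¹ q.1 q.2⟩
      left_inv := fun q => Subtype.ext (by
        show act P φ⁻¹ (act P φ q.1) = q.1
        rw [← MulAut.mul_apply, ← map_mul, inv_mul_cancel, map_one, MulAut.one_apply])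
      right_inv := fun q => Subtype.ext (by
        show act P φ (act P φ⁻¹ q.1) = q.1
        rw [← MulAut.mul_apply, ← map_mul, mul_inv_cancel, map_one, MulAut.one_apply]) }
  map_one' := Equiv.ext fun q => Subtype.ext (by simp)
  map_mul' φ ψ := Equiv.ext fun q => Subtype.ext (by simp)

theorem perm_surjective (h : Setting P) : Function.Surjective (perm P) := by
  classical
  haveI := Fintype.ofFinite (Pt P)
  intro σ
  obtain ⟨z, hz, hz1⟩ := H24.espec_exists_center h.hex
  let e : Fin 5 ≃ Pt P := (Fintype.equivFinOfCardEq (by rw [← Nat.card_eq_fintype_card]; exact card_pt h)).symm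
  have hc : ∀ (f : Fin 4 → Pt P), Function.Injective f → ∀ i j, i ≠ j → ⁅lift (f i), lift (f j)⁆ = z :=
    fun f hf i j hij => comm_lift h hz hz1 (lift_notMem _) (lift_notMem _) (lift_sq _) (lift_sq _)
      fun e => hij (hf (Subtype.ext (by rwa [mk_lift, mk_lift] at e)))
  obtain ⟨φ, hφ⟩ := exists_aut h hz hz1 (fun i => lift (e i.castSucc)) (fun i => lift (σ (e i.castSucc)))
    (fun i => lift_sq _) (fun i => lift_sq _) (hc _ (e.injective.comp (Fin.castSucc_injective 4)))
    (hc _ ((σ.injective.comp e.injective).comp (Fin.castSucc_injective 4)))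
  refine ⟨φ, ?_⟩
  have hfix : ∀ i : Fin 4, perm P φ (e i.castSucc) = σ (e i.castSucc) := by
    intro i
    refine Subtype.ext ?_
    show act P φ (e i.castSucc).1 = _
    rw [← mk_lift (e i.castSucc), act_mk, hφ, mk_lift]
  refine Equiv.ext fun q => ?_
  obtain ⟨j, rfl⟩ := e.surjective q
  induction j using Fin.lastCases with
  | cast i => exact hfix i
  | last =>
    obtain ⟨j, hj⟩ := e.surjective ((perm P φ).symm (σ (e (Fin.last 4))))
    have hj' : perm P φ (e j) = σ (e (Fin.last 4)) := by rw [hj, Equiv.apply_symm_apply]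
    induction j using Fin.lastCases with
    | cast i =>
      rw [hfix] at hj'
      exact absurd (e.injective (σ.injective hj')) (Fin.castSucc_ne_last i)
    | last => exact hj'

theorem card_inn (h : Setting P) :
    Nat.card ↥(MulAut.conj : P →* MulAut P).range = 16 := by
  have hk : (MulAut.conj : P →* MulAut P).ker = Subgroup.center P := by
    ext x
    rw [MonoidHom.mem_ker, Subgroup.mem_center_iff, MulEquiv.ext_iff]
    constructor
    · intro hx g
      exact (mul_inv_eq_iff_eq_mul.1 (hx g)).symm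
    · intro hx g
      show x * g * x⁻¹ = g
      rw [mul_inv_eq_iff_eq_mul, hx g]
  rw [← Subgroup.index_ker, hk]
  have h1 := (Subgroup.center P).card_mul_index
  rw [h.hex.2, h.h32] at h1
  omega

theorem ker_perm (h : Setting P) : (perm P).ker = (MulAut.conj : P →* MulAut P).range := by
  classical
  haveI := Fintype.ofFinite (Pt P)
  obtain ⟨z, hz, hz1⟩ := H24.espec_exists_center h.hex
  let e : Fin 5 ≃ Pt P := (Fintype.equivFinOfCardEq (by rw [← Nat.card_eq_fintype_card]; exact card_pt h)).symm
  let t : Fin 4 → P := fun i => lift (e i.castSucc)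
  have hc : ∀ i j, i ≠ j → ⁅t i, t j⁆ = z :=
    fun i j hij => comm_lift h hz hz1 (lift_notMem _) (lift_notMem _) (lift_sq _) (lift_sq _)
      fun e' => hij (Fin.castSucc_injective 4 (e.injective (Subtype.ext (by rwa [mk_lift, mk_lift] at e'))))
  refine (Subgroup.eq_of_le_of_card_ge ?_ ?_).symm
  · rintro _ ⟨x, rfl⟩
    refine MonoidHom.mem_ker.2 (Equiv.ext fun q => Subtype.ext ?_)
    show act P (MulAut.conj x) q.1 = q.1
    obtain ⟨y, hy⟩ := QuotientGroup.mk_surjective q.1
    rw [← hy, act_mk, MulAut.conj_apply, QuotientGroup.eq]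
    have h1 : (x * y * x⁻¹)⁻¹ * y = ⁅x, y⁻¹⁆ := by rw [commutatorElement_def]; group
    rw [h1]; exact H24.espec_comm_mem h.hex _ _
  · rw [card_inn h]
    let F : (perm P).ker → (Fin 4 → Subgroup.center P) := fun φ i => ⟨(t i)⁻¹ * φ.1 (t i), by
      have h1 := congrArg (fun σ : Equiv.Perm (Pt P) => (σ (e i.castSucc)).1) (MonoidHom.mem_ker.1 φ.2)
      change act P φ.1 (e i.castSucc).1 = (e i.castSucc).1 at h1
      rw [← mk_lift (e i.castSucc), act_mk] at h1
      exact QuotientGroup.eq.1 h1.symm⟩
    have hF : Function.Injective F := by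
      intro φ ψ hφψ
      refine Subtype.ext (MulEquiv.toMonoidHom_injective ?_)
      refine MonoidHom.eq_of_eqOn_dense (closure_eq_top h hz hz1 t hc) ?_
      rintro _ ⟨i, rfl⟩
      exact mul_left_cancel (congrArg Subtype.val (congrFun hφψ i))
    have h1 := Nat.card_le_card_of_injective F hF
    rw [Nat.card_fun, h.hex.2, Nat.card_fin] at h1
    simpa using h1

end Cfsg.Agent.H91.MinusFive
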