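import Cfsg.Agent.H20.Generation
import Mathlib

/-!
An abelian `p`-group acting quadratically, with common commutator property, on a faithful module
of a group whose `p'`-core contains its centraliser: it has order `p` and `p ≤ 3`.
-/

set_option maxHeartbeats 800000

namespace Cfsg.Agent.H91.Quadratic

open Module

section Ring

variable {p : ℕ} [Fact p.Prime] {R : Type*} [Ring R] [Algebra (ZMod p) R]

theorem identity {G H : R} {t x y : ZMod p} (hG : G * G = 0) (hH : H * H = 0) (hGHG : G * H * G = t • G)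
    (hHGH : H * G * H = t • H) (hx : x ≠ 0) (hxyt : 1 + x * y * t = 0) :
    (1 + x • G) * (1 + y • H) * (1 + x • G) * (1 + G) =
      (1 + (y * x⁻¹) • H) * ((1 + x • G) * (1 + y • H) * (1 + x • G)) := by
  have hG' : ∀ X : R, G * (G * X) = 0 := fun X => by rw [← mul_assoc, hG, zero_mul]
  have hH' : ∀ X : R, H * (H * X) = 0 := fun X => by rw [← mul_assoc, hH, zero_mul]
  have h1 : G * (H * G) = t • G := by rw [← mul_assoc]; exact hGHG
  have h2 : H * (G * H) = t • H := by rw [← mul_assoc]; exact hHGH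
  have e1 : (1 + x • G) * (1 + y • H) * (1 + x • G) * G = y • (H * G) := by
    have : (1 + x • G) * (1 + y • H) * (1 + x • G) * G = (1 + x * y * t) • G + y • (H * G) := by
      simp only [add_mul, mul_add, smul_mul_assoc, mul_smul_comm, one_mul, mul_one, mul_assoc, hG, h1,
        hG', smul_zero, mul_zero, smul_smul, add_smul, one_smul, add_zero]
      module
    rw [this, hxyt, zero_smul, zero_add]
  have e2 : H * ((1 + x • G) * (1 + y • H) * (1 + x • G)) = x • (H * G) := by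
    have h3 : H * (G * (H * G)) = t • (H * G) := by rw [h1, mul_smul_comm]
    have : H * ((1 + x • G) * (1 + y • H) * (1 + x • G)) =
        (1 + x * y * t) • H + (x * (1 + x * y * t) + x) • (H * G) := by
      simp only [add_mul, mul_add, smul_mul_assoc, mul_smul_comm, one_mul, mul_one, mul_assoc, hG, hG', hH, hH',
        h2, h3, smul_zero, mul_zero, smul_smul, add_smul, one_smul, add_zero]
      module
    rw [this, hxyt, zero_smul, zero_add, mul_zero, zero_add]
  generalize (1 + x • G) * (1 + y • H) * (1 + x • G) = W at e1 e2 ⊢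
  rw [mul_add, mul_one, e1, add_mul, one_mul, smul_mul_assoc, e2,
    smul_smul, mul_assoc y, inv_mul_cancel₀ hx, mul_one]

omit [Fact p.Prime] [Algebra (ZMod p) R] in
theorem nilpotent_case {G H : R} (hG : G * G = 0) (hH : H * H = 0) (hGHG : G * H * G = 0) :
    IsNilpotent ((1 + H) * (1 - G) - 1) := by
  have hG' : ∀ X : R, G * (G * X) = 0 := fun X => by rw [← mul_assoc, hG, zero_mul]
  have hH' : ∀ X : R, H * (H * X) = 0 := fun X => by rw [← mul_assoc, hH, zero_mul]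
  have h1 : G * (H * G) = 0 := by rw [← mul_assoc]; exact hGHG
  have h1' : ∀ X : R, G * (H * (G * X)) = 0 := fun X => by
    rw [← mul_assoc H G X, ← mul_assoc G, h1, zero_mul]
  refine ⟨4, ?_⟩
  rw [show (1 + H) * (1 - G) - 1 = H - G - H * G by noncomm_ring]
  simp only [pow_succ, pow_zero, one_mul, sub_mul, mul_sub, mul_assoc, hG, hH, hG', hH', h1, h1', mul_zero,
    sub_zero, zero_sub, neg_zero, mul_neg, neg_mul, sub_neg_eq_add, add_zero, zero_add]

end Ring

variable {p : ℕ} [Fact p.Prime] {Γ : Type*} [Group Γ] [Finite Γ]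
variable {V : Type*} [AddCommGroup V] [Module (ZMod p) V] [Nontrivial V]
variable (ρ : Γ →* End (ZMod p) V)

omit [Nontrivial V] in
theorem rho_pow {a : Γ} (h : (ρ a - 1) * (ρ a - 1) = 0) (n : ℕ) :
    ρ (a ^ n) = 1 + (n : ZMod p) • (ρ a - 1) := by
  induction n with
  | zero => simp
  | succ n ih =>
    rw [pow_succ, map_mul, ih]
    conv_lhs => arg 2; rw [show ρ a = 1 + (ρ a - 1) by abel]
    rw [add_mul, one_mul, smul_mul_assoc, mul_add, mul_one, h, add_zero, Nat.cast_succ, add_smul, one_smul]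
    abel

theorem eq_one_of_unipotent (hinj : Function.Injective ρ) {K : Subgroup Γ}
    (hK : (Nat.card K).Coprime p) {x : Γ} (hx : x ∈ K) (hn : IsNilpotent (ρ x - 1)) : x = 1 := by
  haveI : CharP (End (ZMod p) V) p := charP_of_injective_algebraMap
    (FaithfulSMul.algebraMap_injective (ZMod p) (End (ZMod p) V)) p
  obtain ⟨n, hn⟩ := hn
  have hle : n ≤ p ^ n := (Nat.lt_pow_self (Fact.out : p.Prime).one_lt).le
  have h0 : (ρ x - 1) ^ (p ^ n) = 0 := pow_eq_zero_of_le hle hn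
  rw [sub_pow_char_pow_of_commute p n (Commute.one_right _), one_pow, sub_eq_zero, ← map_pow, ← map_one ρ] at h0
  have h1 := orderOf_dvd_of_pow_eq_one (hinj h0)
  have h2 : orderOf x ∣ Nat.card K := by
    have := orderOf_dvd_natCard (⟨x, hx⟩ : K)
    rwa [Subgroup.orderOf_mk] at this
  exact orderOf_eq_one_iff.1 (Nat.eq_one_of_dvd_coprimes (hK.pow_right n) h2 h1)

omit [Finite Γ] [Nontrivial V] in
theorem conj_sub (g x : Γ) (v : V) :
    (ρ (g * x * g⁻¹) - 1) v = ρ g ((ρ x - 1) (ρ g⁻¹ v)) := by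
  simp only [LinearMap.sub_apply, End.one_apply, map_sub, map_mul, End.mul_apply]
  rw [← End.mul_apply (ρ g) (ρ g⁻¹), ← map_mul, mul_inv_cancel, map_one, End.one_apply]

/-- A group acting on a chain `0 ≤ W ≤ V` trivially on both factors commutes with the coprime group
stabilising the chain. -/
theorem commute_of_chain (hinj : Function.Injective ρ) {K : Subgroup Γ} [K.Normal]
    (hK : (Nat.card K).Coprime p) {a k : Γ} (hk : k ∈ K) (W : Submodule (ZMod p) V)
    (hkW : ∀ w ∈ W, ρ k w ∈ W) (hkW' : ∀ w ∈ W, ρ k⁻¹ w ∈ W)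
    (h1 : ∀ v, (ρ a - 1) v ∈ W) (h2 : ∀ w ∈ W, ρ a w = w) : k * a = a * k := by
  have h1' : ∀ v, (ρ a⁻¹ - 1) v ∈ W := fun v => by
    have : (ρ a⁻¹ - 1) v = -((ρ a - 1) (ρ a⁻¹ v)) := by
      simp only [LinearMap.sub_apply, End.one_apply]
      rw [← End.mul_apply (ρ a) (ρ a⁻¹), ← map_mul, mul_inv_cancel, map_one, End.one_apply, neg_sub]
    rw [this]; exact W.neg_mem (h1 _)
  have h2' : ∀ w ∈ W, ρ a⁻¹ w = w := fun w hw => by
    conv_lhs => rw [← h2 w hw]
    rw [← End.mul_apply, ← map_mul, inv_mul_cancel, map_one, End.one_apply]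
  have hu : k * a * k⁻¹ * a⁻¹ ∈ K := by
    have := K.mul_mem hk ((inferInstance : K.Normal).conj_mem _ (K.inv_mem hk) a)
    simpa [mul_assoc] using this
  have e : k * a * k⁻¹ * a⁻¹ = 1 := by
    refine eq_one_of_unipotent ρ hinj hK hu ⟨2, ?_⟩
    have himg : ∀ v, (ρ (k * a * k⁻¹ * a⁻¹) - 1) v ∈ W := by
      intro v
      have : (ρ (k * a * k⁻¹ * a⁻¹) - 1) v = (ρ (k * a * k⁻¹) - 1) (ρ a⁻¹ v) + (ρ a⁻¹ - 1) v := by
        simp only [LinearMap.sub_apply, End.one_apply, map_mul, End.mul_apply]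
        abel
      rw [this, conj_sub]
      exact W.add_mem (hkW _ (h1 _)) (h1' v)
    have hker : ∀ w ∈ W, (ρ (k * a * k⁻¹ * a⁻¹) - 1) w = 0 := by
      intro w hw
      simp only [LinearMap.sub_apply, End.one_apply, map_mul, End.mul_apply]
      rw [h2' w hw, h2 _ (hkW' w hw), ← End.mul_apply, ← map_mul, mul_inv_cancel, map_one, End.one_apply,
        sub_self]
    rw [pow_two]
    exact LinearMap.ext fun v => hker _ (himg v)
  calc k * a = (k * a * k⁻¹ * a⁻¹) * (a * k) := by group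
    _ = a * k := by rw [e, one_mul]

/-- The main theorem. -/
theorem rank_one [Finite V] (hinj : Function.Injective ρ) (K A : Subgroup Γ) [K.Normal]
    (hK : (Nat.card K).Coprime p) (hC : Subgroup.centralizer (K : Set Γ) ≤ K)
    (hA : ∀ a ∈ A, a ^ p = 1) (hAc : ∀ a ∈ A, ∀ b ∈ A, a * b = b * a) (hA1 : A ≠ ⊥)
    (Zb : Submodule (ZMod p) V) (h1 : ∀ a ∈ A, ∀ v, (ρ a - 1) v ∈ Zb)
    (h2 : ∀ a ∈ A, ∀ w ∈ Zb, ρ a w = w)
    (h3 : ∀ v, v ∉ Zb → ∀ a ∈ A, ∀ w, ∃ a' ∈ A, (ρ a - 1) w = (ρ a' - 1) v) :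
    (p = 2 ∨ p = 3) ∧ ∃ a ∈ A, a ≠ 1 ∧ A = Subgroup.zpowers a ∧
      (∀ v, ρ a v = v → v ∈ Zb) ∧ ∃ v, v ∉ Zb ∧ ∀ w, ∃ i : ℕ, w - i • v ∈ Zb := by
  classical
  have hp := (Fact.out : p.Prime)
  have hAp : ∀ a ∈ A, a ∈ K → a = 1 := by
    intro a ha haK
    have h := orderOf_dvd_of_pow_eq_one (hA a ha)
    have h' : orderOf a ∣ Nat.card K := by
      have := orderOf_dvd_natCard (⟨a, haK⟩ : K)
      rwa [Subgroup.orderOf_mk] at this
    exact orderOf_eq_one_iff.1 (Nat.eq_one_of_dvd_coprimes hK h' h)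
  have hfixA : ∀ v, (∀ a ∈ A, ρ a v = v) → v ∈ Zb := by
    intro v hv
    by_contra hvZ
    refine hA1 ((Subgroup.eq_bot_iff_forall _).2 fun a ha => hinj ?_)
    rw [map_one]
    refine LinearMap.ext fun w => ?_
    obtain ⟨a', ha', he⟩ := h3 v hvZ a ha w
    simp only [LinearMap.sub_apply, End.one_apply, hv a' ha', sub_self, sub_eq_zero] at he
    exact he
  -- a maximal subgroup with centraliser in `K` not centralising `A`
  let Fam : Set (Subgroup Γ) := {B | B ≤ A ∧ ∃ k ∈ K, (∀ b ∈ B, k * b = b * k) ∧ ∃ a ∈ A, k * a ≠ a * k}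
  have hne : (⊥ : Subgroup Γ) ∈ Fam := by
    refine ⟨bot_le, ?_⟩
    by_contra hcon
    refine hA1 ((Subgroup.eq_bot_iff_forall _).2 fun a ha => hAp a ha (hC ?_))
    refine Subgroup.mem_centralizer_iff.2 fun k hk => ?_
    by_contra hka
    exact hcon ⟨k, hk, fun b hb => by rw [Subgroup.mem_bot.1 hb, mul_one, one_mul], a, ha, hka⟩
  obtain ⟨B, hBmax⟩ := Set.Finite.exists_maximal (Set.toFinite Fam) ⟨⊥, hne⟩
  obtain ⟨hBA, k₀, hk₀, hk₀B, a₀, ha₀, hk₀a⟩ := hBmax.1
  have hnormA : ∀ X : Subgroup Γ, X ≤ A → A ≤ Subgroup.normalizer (X : Set Γ) := by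
    intro X hX a ha
    rw [Subgroup.mem_normalizer_iff]
    intro x
    constructor
    · intro hx; rw [hAc a ha x (hX hx), mul_inv_cancel_right]; exact hx
    · intro hx
      have hxA : x ∈ A := by
        have := A.mul_mem (A.mul_mem (A.inv_mem ha) (hX hx)) ha
        simpa [mul_assoc] using this
      rwa [hAc a ha x hxA, mul_inv_cancel_right] at hx
  have hsup : ∀ X Y : Subgroup Γ, X ≤ A → Y ≤ A → ∀ z ∈ X ⊔ Y, ∃ x ∈ X, ∃ y ∈ Y, x * y = z := by
    intro X Y hX hY z hz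
    have : z ∈ ((X ⊔ Y : Subgroup Γ) : Set Γ) := hz
    rw [Subgroup.coe_mul_of_right_le_normalizer_left _ _ (hY.trans (hnormA X hX))] at this
    exact Set.mem_mul.1 this
  have hord : ∀ a ∈ A, a ≠ 1 → orderOf a = p := fun a ha h => orderOf_eq_prime (hA a ha) h
  -- `B` has index `p`
  have hidx : ∀ b₁ ∈ A, b₁ ∉ B → B ⊔ Subgroup.zpowers b₁ = A := by
    intro b₁ hb₁ hb₁B
    refine le_antisymm (sup_le hBA (Subgroup.zpowers_le.2 hb₁)) ?_
    intro b₂ hb₂
    by_contra hb₂B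
    set B₁ := B ⊔ Subgroup.zpowers b₁ with hB₁
    let A₀ : Subgroup Γ := Subgroup.zpowers b₁ ⊔ Subgroup.zpowers b₂
    have hA₀ : A₀ ≤ A := sup_le (Subgroup.zpowers_le.2 hb₁) (Subgroup.zpowers_le.2 hb₂)
    have hpow : ∀ (X : Subgroup Γ) (c : Γ), c ∈ A → c ∉ X → ∀ i : ℤ, c ^ i ∈ X → c ^ i = 1 := by
      intro X c hc hcX i hi
      have hc1 : c ≠ 1 := fun h => hcX (h ▸ X.one_mem)
      by_contra hne
      have hd : ¬ (p : ℤ) ∣ i := by
        intro hd
        apply hne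
        rw [← orderOf_dvd_iff_zpow_eq_one, hord c hc hc1]
        exact hd
      obtain ⟨u, v, huv⟩ : IsCoprime i (p : ℤ) := ((Nat.prime_iff_prime_int.1 hp).coprime_iff_not_dvd.2 hd).symm
      apply hcX
      have : c ^ (u * i + v * (p : ℤ)) = c := by rw [huv, zpow_one]
      rw [← this, zpow_add, mul_comm u, zpow_mul, mul_comm v, zpow_mul, zpow_natCast, hA c hc, one_zpow, mul_one]
      exact X.zpow_mem hi u
    have hA₀B : ∀ z ∈ A₀, z ∈ B → z = 1 := by
      intro z hz hzB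
      obtain ⟨x, hx, y, hy, rfl⟩ := hsup _ _ (Subgroup.zpowers_le.2 hb₁) (Subgroup.zpowers_le.2 hb₂) z hz
      obtain ⟨i, rfl⟩ := Subgroup.mem_zpowers_iff.1 hx
      obtain ⟨j, rfl⟩ := Subgroup.mem_zpowers_iff.1 hy
      have hj : b₂ ^ j = 1 := by
        refine hpow B₁ b₂ hb₂ hb₂B j ?_
        have := B₁.mul_mem (B₁.inv_mem (Subgroup.mem_sup_right (Subgroup.zpow_mem _ (Subgroup.mem_zpowers b₁) i) :
          b₁ ^ i ∈ B₁)) (Subgroup.mem_sup_left hzB)
        simpa using this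
      rw [hj, mul_one] at hzB ⊢
      exact hpow B b₁ hb₁ hb₁B i hzB
    haveI : IsMulCommutative A₀ := ⟨⟨fun u v => Subtype.ext (hAc u (hA₀ u.2) v (hA₀ v.2))⟩⟩
    have hnc : ¬ IsCyclic A₀ := by
      intro hcy
      obtain ⟨g, hg⟩ := hcy.exists_generator
      have hb₁1 : b₁ ≠ 1 := fun h => hb₁B (h ▸ B.one_mem)
      have hle : Subgroup.zpowers (g : Γ) = A₀ := by
        refine le_antisymm (Subgroup.zpowers_le.2 g.2) fun x hx => ?_
        obtain ⟨i, hi⟩ := Subgroup.mem_zpowers_iff.1 (hg ⟨x, hx⟩)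
        exact Subgroup.mem_zpowers_iff.2 ⟨i, by simpa using congrArg Subtype.val hi⟩
      have hb1g : Subgroup.zpowers b₁ = A₀ := by
        refine Subgroup.eq_of_le_of_card_ge le_sup_left ?_
        rw [← hle, Nat.card_zpowers, Nat.card_zpowers, hord b₁ hb₁ hb₁1]
        exact orderOf_le_of_pow_eq_one hp.pos (hA _ (hA₀ g.2))
      apply hb₂B
      have : b₂ ∈ A₀ := Subgroup.mem_sup_right (Subgroup.mem_zpowers b₂)
      rw [← hb1g] at this
      exact Subgroup.mem_sup_right this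
    have hcop : (Nat.card A₀).Coprime (Nat.card (K ⊓ Subgroup.centralizer (B : Set Γ) : Subgroup Γ)) := by
      refine Nat.Coprime.coprime_dvd_right (Subgroup.card_dvd_of_le inf_le_left) ?_
      haveI : Fact p.Prime := ⟨hp⟩
      obtain ⟨m, hm⟩ := IsPGroup.iff_card.1 (show IsPGroup p A₀ from fun a => ⟨1, by
        rw [pow_one]; exact Subtype.ext (hA _ (hA₀ a.2))⟩)
      rw [hm]
      exact (Nat.Coprime.pow_right m hK).symm
    have hnorm : A₀ ≤ Subgroup.normalizer ((K ⊓ Subgroup.centralizer (B : Set Γ) : Subgroup Γ) : Set Γ) := by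
      intro a ha
      rw [Subgroup.mem_normalizer_iff]
      intro x
      have hab : ∀ b ∈ B, b * a = a * b := fun b hb => hAc b (hBA hb) a (hA₀ ha)
      simp only [Subgroup.mem_inf, Subgroup.mem_centralizer_iff, SetLike.mem_coe]
      constructor
      · rintro ⟨hxK, hxB⟩
        refine ⟨(inferInstance : K.Normal).conj_mem x hxK a, fun b hb => ?_⟩
        calc b * (a * x * a⁻¹) = a * (b * x) * a⁻¹ := by rw [← mul_assoc, ← mul_assoc, hab b hb, mul_assoc a b x]
          _ = a * (x * b) * a⁻¹ := by rw [hxB b hb]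
          _ = a * x * a⁻¹ * (a * b * a⁻¹) := by group
          _ = a * x * a⁻¹ * b := by rw [← hab b hb, mul_inv_cancel_right]
      · rintro ⟨hxK, hxB⟩
        refine ⟨by simpa [mul_assoc] using (inferInstance : K.Normal).conj_mem _ hxK a⁻¹, fun b hb => ?_⟩
        have h := hxB b hb
        calc b * x = a⁻¹ * (a * b * a⁻¹) * (a * x * a⁻¹) * a := by group
          _ = a⁻¹ * (b * (a * x * a⁻¹)) * a := by rw [← hab b hb, mul_inv_cancel_right, mul_assoc a⁻¹ b]
          _ = a⁻¹ * ((a * x * a⁻¹) * b) * a := by rw [h]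
          _ = x * a⁻¹ * (b * a) := by group
          _ = x * b := by rw [hab b hb]; group
    have key := H20.le_of_centralizers_le (H := Subgroup.centralizer (A : Set Γ)) hnc hnorm hcop (by
      intro c hc hc1 x hx
      refine Subgroup.mem_centralizer_iff.2 fun a ha => ?_
      by_contra hxa
      have hmem : B ⊔ Subgroup.zpowers c ∈ Fam := by
        refine ⟨sup_le hBA (Subgroup.zpowers_le.2 (hA₀ hc)), x, hx.1.1, fun b hb => ?_, a, ha, fun h => hxa h.symm⟩
        have hle : B ⊔ Subgroup.zpowers c ≤ Subgroup.centralizer {x} := sup_le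
          (fun b hb => Subgroup.mem_centralizer_singleton_iff.2 (Subgroup.mem_centralizer_iff.1 hx.1.2 b hb))
          (Subgroup.zpowers_le.2 (Subgroup.mem_centralizer_singleton_iff.2
            (Subgroup.mem_centralizer_singleton_iff.1 hx.2).symm))
        exact (Subgroup.mem_centralizer_singleton_iff.1 (hle hb)).symm
      exact hc1 (hA₀B c hc (hBmax.2 hmem le_sup_left (Subgroup.mem_sup_right (Subgroup.mem_zpowers c)))))
    exact hk₀a ((Subgroup.mem_centralizer_iff.1 (key ⟨hk₀, Subgroup.mem_centralizer_iff.2 fun b hb =>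
      (hk₀B b hb).symm⟩) a₀ ha₀).symm)
  have hBne : ∃ a₁ ∈ A, a₁ ∉ B := ⟨a₀, ha₀, fun h => hk₀a (hk₀B a₀ h)⟩
  obtain ⟨a₁, ha₁, ha₁B⟩ := hBne
  have hsq : ∀ a ∈ A, (ρ a - 1) * (ρ a - 1) = 0 := fun a ha => LinearMap.ext fun v => by
    rw [End.mul_apply, LinearMap.sub_apply, h2 a ha _ (h1 a ha v)]
    simp
  have hsplit : ∀ a ∈ A, ∃ b ∈ B, ∃ i : ℕ, a = b * a₁ ^ i := by
    intro a ha
    rw [← hidx a₁ ha₁ ha₁B] at ha
    obtain ⟨b, hb, c, hc, rfl⟩ := hsup _ _ hBA (Subgroup.zpowers_le.2 ha₁) a ha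
    obtain ⟨i, rfl⟩ := (isOfFinOrder_of_finite a₁).mem_powers_iff_mem_zpowers.2 hc
    exact ⟨b, hb, i, rfl⟩
  -- `B` is trivial
  have hBbot : B = ⊥ := by
    by_contra hB0
    obtain ⟨b₀, hb₀, hb₀1⟩ : ∃ b ∈ B, b ≠ 1 := by
      by_contra hcon
      push Not at hcon
      exact hB0 ((Subgroup.eq_bot_iff_forall _).2 hcon)
    apply hk₀a
    by_cases hcase : ∀ m, (∀ b ∈ B, ρ b m = m) → m ∈ Zb
    · have hpres : ∀ k, (∀ b ∈ B, k * b = b * k) → ∀ w ∈ Zb, ρ k w ∈ Zb := fun k hk w hw =>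
        hcase _ fun b hb => by
          rw [← End.mul_apply, ← map_mul, ← hk b hb, map_mul, End.mul_apply, h2 b (hBA hb) w hw]
      exact commute_of_chain ρ hinj hK hk₀ Zb (hpres k₀ hk₀B)
        (hpres k₀⁻¹ fun b hb => ((show Commute k₀ b from hk₀B b hb).inv_left).eq) (h1 a₀ ha₀) (h2 a₀ ha₀)
    · push Not at hcase
      obtain ⟨m, hmB, hmZ⟩ := hcase
      set d := (ρ a₁ - 1) m with hd
      have hdZ : d ∈ Zb := h1 a₁ ha₁ m
      have hform : ∀ a ∈ A, ∀ w, ∃ c : ZMod p, (ρ a - 1) w = c • d := by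
        intro a ha w
        obtain ⟨a', ha', he⟩ := h3 m hmZ a ha w
        obtain ⟨b, hb, i, rfl⟩ := hsplit a' ha'
        refine ⟨(i : ZMod p), he.trans ?_⟩
        rw [LinearMap.sub_apply, End.one_apply, map_mul, End.mul_apply, rho_pow ρ (hsq a₁ ha₁), LinearMap.add_apply,
          End.one_apply, LinearMap.smul_apply, map_add, map_smul, hmB b hb, h2 b (hBA hb) d hdZ, add_sub_cancel_left]
      obtain ⟨w₀, hw₀⟩ : ∃ w, (ρ b₀ - 1) w ≠ 0 := by
        by_contra hcon
        push Not at hcon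
        exact hb₀1 (hinj (by rw [map_one, ← sub_eq_zero]; exact LinearMap.ext hcon))
      obtain ⟨c₀, hc₀⟩ := hform b₀ (hBA hb₀) w₀
      have hc₀0 : c₀ ≠ 0 := fun h => hw₀ (by rw [hc₀, h, zero_smul])
      have hpres : ∀ k, (∀ b ∈ B, k * b = b * k) → ∀ w ∈ Submodule.span (ZMod p) {d},
          ρ k w ∈ Submodule.span (ZMod p) {d} := by
        intro k hk w hw
        obtain ⟨c, rfl⟩ := Submodule.mem_span_singleton.1 hw
        have hdd : d = c₀⁻¹ • (ρ b₀ - 1) w₀ := by rw [hc₀, smul_smul, inv_mul_cancel₀ hc₀0, one_smul]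
        have hcm : ρ k ((ρ b₀ - 1) w₀) = (ρ b₀ - 1) (ρ k w₀) := by
          simp only [LinearMap.sub_apply, End.one_apply, map_sub]
          rw [← End.mul_apply, ← map_mul, hk b₀ hb₀, map_mul, End.mul_apply]
        obtain ⟨c', hc'⟩ := hform b₀ (hBA hb₀) (ρ k w₀)
        rw [map_smul, hdd, map_smul, hcm, hc', ← hdd, smul_smul, smul_smul]
        exact Submodule.mem_span_singleton.2 ⟨_, rfl⟩
      refine commute_of_chain ρ hinj hK hk₀ (Submodule.span (ZMod p) {d}) (hpres k₀ hk₀B)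
        (hpres k₀⁻¹ fun b hb => ((show Commute k₀ b from hk₀B b hb).inv_left).eq) (fun v => ?_) (fun w hw => ?_)
      · obtain ⟨c, hc⟩ := hform a₀ ha₀ v
        exact Submodule.mem_span_singleton.2 ⟨c, hc.symm⟩
      · obtain ⟨c, rfl⟩ := Submodule.mem_span_singleton.1 hw
        rw [map_smul, h2 a₀ ha₀ d hdZ]
  subst hBbot
  have hAz : A = Subgroup.zpowers a₁ := by rw [← hidx a₁ ha₁ ha₁B, bot_sup_eq]
  have ha₁1 : a₁ ≠ 1 := fun h => ha₁B (h ▸ Subgroup.one_mem _)
  have hfix₁ : ∀ v, ρ a₁ v = v → v ∈ Zb := fun v hv => hfixA v fun a ha => by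
    obtain ⟨b, hb, i, rfl⟩ := hsplit a ha
    rw [Subgroup.mem_bot.1 hb, one_mul]
    induction i with
    | zero => simp
    | succ i ih => rw [pow_succ, map_mul, End.mul_apply, hv, ih (by rw [Subgroup.mem_bot.1 hb, one_mul]; exact A.pow_mem ha₁ i)]
  obtain ⟨v₀, hv₀⟩ : ∃ v, v ∉ Zb := by
    by_contra hcon
    push Not at hcon
    exact ha₁1 (hinj (by rw [map_one]; exact LinearMap.ext fun v => h2 a₁ ha₁ v (hcon v)))
  set G := ρ a₁ - 1 with hG
  have hGimg : ∀ w, ∃ i : ℕ, G w = (i : ZMod p) • G v₀ := by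
    intro w
    obtain ⟨a', ha', he⟩ := h3 v₀ hv₀ a₁ ha₁ w
    obtain ⟨b, hb, i, rfl⟩ := hsplit a' ha'
    refine ⟨i, he.trans ?_⟩
    rw [Subgroup.mem_bot.1 hb, one_mul, rho_pow ρ (hsq a₁ ha₁), add_sub_cancel_left, LinearMap.smul_apply]
  refine ⟨?_, a₁, ha₁, ha₁1, hAz, hfix₁, v₀, hv₀, fun w => ?_⟩
  swap
  · obtain ⟨i, hi⟩ := hGimg w
    refine ⟨i, hfix₁ _ (sub_eq_zero.1 ?_)⟩
    show G (w - i • v₀) = 0
    rw [map_sub, hi, map_nsmul, Nat.cast_smul_eq_nsmul, sub_self]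
  -- the transvection identity
  by_contra hp23
  push Not at hp23
  obtain ⟨k, hk, hka⟩ : ∃ k ∈ K, k * a₁ ≠ a₁ * k := by
    by_contra hcon
    push Not at hcon
    exact ha₁1 (hAp a₁ ha₁ (hC (Subgroup.mem_centralizer_iff.2 hcon)))
  set h := k * a₁ * k⁻¹ with hh
  have hxK : h * a₁⁻¹ ∈ K := by
    have := K.mul_mem hk ((inferInstance : K.Normal).conj_mem _ (K.inv_mem hk) a₁)
    simpa [hh, mul_assoc] using this
  set H := ρ h - 1 with hH
  have hGG : G * G = 0 := hsq a₁ ha₁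
  have hHH : H * H = 0 := LinearMap.ext fun v => by
    rw [End.mul_apply, hH, hh, conj_sub, conj_sub, ← End.mul_apply (ρ k⁻¹) (ρ k), ← map_mul, inv_mul_cancel,
      map_one, End.one_apply, ← End.mul_apply G G, hGG]
    simp
  have hrank : ∀ M : End (ZMod p) V, ∃ c : ZMod p, G * M * G = c • G := by
    intro M
    obtain ⟨j, hj⟩ := hGimg (M (G v₀))
    refine ⟨j, LinearMap.ext fun w => ?_⟩
    obtain ⟨i, hi⟩ := hGimg w
    rw [End.mul_apply, End.mul_apply, hi, map_smul, map_smul, hj, LinearMap.smul_apply, hi, smul_comm]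
  obtain ⟨t, ht⟩ := hrank H
  obtain ⟨t', ht'⟩ : ∃ c : ZMod p, H * G * H = c • H := by
    obtain ⟨c, hc⟩ := hrank (ρ k⁻¹ * G * ρ k)
    refine ⟨c, LinearMap.ext fun w => ?_⟩
    have := congrArg (fun f : End (ZMod p) V => ρ k (f (ρ k⁻¹ w))) hc
    simp only [End.mul_apply, LinearMap.smul_apply, map_smul] at this
    rw [End.mul_apply, End.mul_apply, LinearMap.smul_apply, hH, hh, conj_sub, conj_sub]
    exact this
  have hG0 : G ≠ 0 := fun h0 => ha₁1 (hinj (by rw [map_one, ← sub_eq_zero]; exact h0))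
  by_cases ht0 : t = 0
  · apply hka
    have hx1 : h * a₁⁻¹ = 1 := by
      refine eq_one_of_unipotent ρ hinj hK hxK ?_
      have e : ρ (h * a₁⁻¹) = (1 + H) * (1 - G) := by
        have e1 : ρ a₁⁻¹ = 1 - G := by
          have : (1 - G) * ρ a₁ = 1 := by
            rw [show ρ a₁ = 1 + G by rw [hG]; abel, mul_add, mul_one, sub_mul, one_mul, hGG, sub_zero, sub_add_cancel]
          calc ρ a₁⁻¹ = (1 - G) * ρ a₁ * ρ a₁⁻¹ := by rw [this, one_mul]
            _ = 1 - G := by rw [mul_assoc, ← map_mul, mul_inv_cancel, map_one, mul_one]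
        rw [map_mul, e1, hH, add_sub_cancel]
      rw [e]
      exact nilpotent_case hGG hHH (by rw [ht, ht0, zero_smul])
    rw [hh] at hx1
    calc k * a₁ = (k * a₁ * k⁻¹ * a₁⁻¹) * (a₁ * k) := by group
      _ = a₁ * k := by rw [hx1, one_mul]
  have htt : t' = t := by
    have e : G * H * G * H = G * (H * G * H) := by simp only [mul_assoc]
    rw [ht, ht', mul_smul_comm, smul_mul_assoc] at e
    have hGH : G * H ≠ 0 := fun h0 => by
      rw [h0, zero_mul, eq_comm] at ht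
      exact (smul_ne_zero ht0 hG0) ht
    exact (smul_left_injective (ZMod p) hGH e).symm
  rw [htt] at ht'
  have hscal : ∀ x : ZMod p, x ≠ 0 → -(x * t)⁻¹ * x⁻¹ = 1 := by
    intro x hx
    set y : ZMod p := -(x * t)⁻¹ with hy
    have hxyt : 1 + x * y * t = 0 := by rw [hy]; field_simp; ring
    have hid := identity hGG hHH ht ht' hx hxyt
    have hpa : ∀ c : ZMod p, ρ (a₁ ^ c.val) = 1 + c • G := fun c => by
      rw [rho_pow ρ (hsq a₁ ha₁), ZMod.natCast_val, ZMod.cast_id]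
    have hph : ∀ c : ZMod p, ρ (h ^ c.val) = 1 + c • H := fun c => by
      rw [rho_pow ρ hHH, ZMod.natCast_val, ZMod.cast_id]
    rw [← hpa, ← hph, ← hph, show (1 : End (ZMod p) V) + G = ρ a₁ by rw [hG]; abel, ← map_mul, ← map_mul,
      ← map_mul, ← map_mul] at hid
    have hgrp := congrArg (QuotientGroup.mk' K) (hinj hid)
    have hha : QuotientGroup.mk' K h = QuotientGroup.mk' K a₁ := by
      rw [QuotientGroup.mk'_eq_mk']
      refine ⟨h⁻¹ * a₁, ?_, by group⟩
      have := (inferInstance : K.Normal).conj_mem _ (K.inv_mem hxK) h⁻¹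
      simpa [mul_assoc] using this
    simp only [map_mul, map_pow, hha] at hgrp
    rw [← pow_add, ← pow_add, ← pow_succ, ← pow_add] at hgrp
    have hord' : orderOf (QuotientGroup.mk' K a₁) = p := by
      refine orderOf_eq_prime (by rw [← map_pow, hA a₁ ha₁, map_one]) fun h1 => ha₁1 (hAp a₁ ha₁ ?_)
      exact (QuotientGroup.eq_one_iff a₁).1 h1
    rw [pow_eq_pow_iff_modEq, hord', ← ZMod.natCast_eq_natCast_iff] at hgrp
    push_cast at hgrp
    simp only [ZMod.natCast_val, ZMod.cast_id] at hgrp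
    linear_combination -hgrp
  have e1 := hscal 1 one_ne_zero
  have h2ne : (2 : ZMod p) ≠ 0 := fun h => hp23.1 ((Nat.prime_dvd_prime_iff_eq hp Nat.prime_two).1
    ((CharP.cast_eq_zero_iff (ZMod p) p 2).1 (by exact_mod_cast h)))
  have e2 := hscal 2 h2ne
  field_simp at e1 e2
  have h3 : ((3 : ℕ) : ZMod p) = 0 := by
    have : t * (3 : ZMod p) = 0 := by linear_combination e1 - e2
    exact_mod_cast (mul_eq_zero.1 this).resolve_left ht0
  exact hp23.2 ((Nat.prime_dvd_prime_iff_eq hp Nat.prime_three).1 ((CharP.cast_eq_zero_iff (ZMod p) p 3).1 h3))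

end Cfsg.Agent.H91.Quadratic
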