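import Cfsg.Agent.H32.MinimalNonNilpotent
import Cfsg.Agent.H21.FrobeniusStructure
import Cfsg.Agent.H19.Frattini
import Cfsg.Agent.H24.Huppert
import Mathlib

/-!
The automorphism carried by the normal Sylow subgroup of a minimal non-nilpotent group, and what
it forces on that subgroup.
-/

namespace Cfsg.Agent.H91.Schmidt

open scoped commutatorElement

variable {P : Type*} [Group P]

/-- An automorphism of prime order `q ≠ p` fixing every proper invariant subgroup pointwise. -/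
structure AutData (p : ℕ) (α : MulAut P) (q : ℕ) : Prop where
  prime : q.Prime
  ne : q ≠ p
  pow_eq : α ^ q = 1
  ne_one : α ≠ 1
  fix : ∀ R : Subgroup P, (∀ x ∈ R, α x ∈ R) → R ≠ ⊤ → ∀ x ∈ R, α x = x

theorem AutData.congr {Q : Type*} [Group Q] (e : P ≃* Q) {p q : ℕ} {α : MulAut P}
    (h : AutData p α q) : AutData p (MulAut.congr e α) q where
  prime := h.prime
  ne := h.ne
  pow_eq := by rw [← map_pow, h.pow_eq, map_one]
  ne_one := fun he => h.ne_one ((MulAut.congr e).injective (he.trans (map_one _).symm))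
  fix := by
    intro R hR hne x hx
    have hinv : ∀ u ∈ R.comap e.toMonoidHom, α u ∈ R.comap e.toMonoidHom := by
      intro u hu
      have := hR _ hu
      simpa [MulAut.congr] using this
    have hne' : R.comap e.toMonoidHom ≠ ⊤ := by
      intro ht
      apply hne
      refine eq_top_iff.2 fun v _ => ?_
      have : e.symm v ∈ R.comap e.toMonoidHom := ht ▸ Subgroup.mem_top _
      simpa using this
    have := h.fix _ hinv hne' (e.symm x) (by simpa using hx)
    show e (α (e.symm x)) = x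
    rw [this, e.apply_symm_apply]

/-- The normal Sylow subgroup of a minimal non-nilpotent group carries such an automorphism. -/
theorem exists_autData {X : Type*} [Group X] [Finite X] (p : ℕ) [Fact p.Prime]
    (hX : Cfsg.IsMinimalNonNilpotent X) (P : Sylow p X) (hPn : (P : Subgroup X).Normal)
    (hP1 : (P : Subgroup X) ≠ ⊥) : ∃ (α : MulAut ↥(P : Subgroup X)) (q : ℕ), AutData p α q := by
  classical
  obtain ⟨p₀, q₀, hp₀, hq₀, hne₀, P₀, Q₀, hP₀c, hQ₀n, hsup⟩ := H32.minimalNonNilpotent_structure hX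
  obtain ⟨hnn, hmin⟩ := hX
  haveI := Fact.mk hp₀
  haveI := Fact.mk hq₀
  have hall : ∀ x ∈ (P₀ : Subgroup X), ∀ y ∈ (Q₀ : Subgroup X), (orderOf x).Coprime (orderOf y) := by
    intro x hx y hy
    obtain ⟨a, ha⟩ := IsPGroup.iff_orderOf.1 P₀.2 ⟨x, hx⟩
    obtain ⟨b, hb⟩ := IsPGroup.iff_orderOf.1 Q₀.2 ⟨y, hy⟩
    rw [Subgroup.orderOf_mk] at ha hb
    rw [ha, hb]
    exact Nat.Coprime.pow _ _ ((Nat.coprime_primes hp₀ hq₀).2 hne₀)
  -- commuting Sylow subgroups give nilpotency
  have hnilp : (∀ x ∈ (P₀ : Subgroup X), ∀ y ∈ (Q₀ : Subgroup X), x * y = y * x) → False := by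
    intro hc
    apply hnn
    haveI : Group.IsNilpotent ↥(P₀ : Subgroup X) := P₀.2.isNilpotent
    haveI : Group.IsNilpotent ↥(Q₀ : Subgroup X) := Q₀.2.isNilpotent
    let f : ↥(P₀ : Subgroup X) × ↥(Q₀ : Subgroup X) →* X :=
      MonoidHom.noncommCoprod (P₀ : Subgroup X).subtype (Q₀ : Subgroup X).subtype
        (fun x y => hc x x.2 y y.2)
    refine Group.nilpotent_of_surjective f (MonoidHom.range_eq_top.1 (top_le_iff.1 ?_))
    rw [← hsup]
    refine sup_le ?_ ?_
    · intro x hx; exact ⟨(⟨x, hx⟩, 1), mul_one x⟩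
    · intro y hy; exact ⟨(1, ⟨y, hy⟩), one_mul y⟩
  have hp : p = q₀ := by
    by_contra hpq
    by_cases hpp : p = p₀
    · subst hpp
      obtain ⟨g, hg⟩ := MulAction.exists_smul_eq X P P₀
      have hP₀n : (P₀ : Subgroup X).Normal := by
        rw [← hg, Sylow.smul_eq_of_normal]
        exact hPn
      apply hnilp
      intro x hx y hy
      have hd : Disjoint (P₀ : Subgroup X) Q₀ := by
        rw [Subgroup.disjoint_def]
        intro z hz hz'
        exact orderOf_eq_one_iff.1 (Nat.eq_one_of_dvd_one (by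
          rw [← (hall z hz z hz').gcd_eq_one]; exact Nat.dvd_gcd dvd_rfl dvd_rfl))
      exact Subgroup.commute_of_normal_of_disjoint _ _ hP₀n hQ₀n hd x y hx hy
    · apply hP1
      rw [Subgroup.eq_bot_iff_forall]
      intro x hx
      have h2 : p ∣ orderOf x → p ∣ Nat.card ↥(P₀ : Subgroup X) * Nat.card ↥(Q₀ : Subgroup X) := by
        intro h
        have h1 : Nat.card X ∣ Nat.card ↥(P₀ : Subgroup X) * Nat.card ↥(Q₀ : Subgroup X) := by
          haveI := hQ₀n
          have := @H19.card_sup_dvd _ _ (Q₀ : Subgroup X) (P₀ : Subgroup X) hQ₀n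
          rw [sup_comm, hsup, Subgroup.card_top] at this
          exact this.trans (dvd_of_eq (mul_comm _ _))
        exact (h.trans (orderOf_dvd_natCard x)).trans h1
      obtain ⟨k, hk⟩ := IsPGroup.iff_orderOf.1 P.2 ⟨x, hx⟩
      rw [Subgroup.orderOf_mk] at hk
      rcases k with _ | k
      · rw [pow_zero] at hk; exact orderOf_eq_one_iff.1 hk
      exfalso
      have h3 := h2 (hk ▸ dvd_pow_self p (Nat.succ_ne_zero k))
      obtain ⟨a, ha⟩ := IsPGroup.iff_card.1 P₀.2
      obtain ⟨b, hb⟩ := IsPGroup.iff_card.1 Q₀.2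
      have hpp' := (Fact.out : p.Prime)
      rcases hpp'.dvd_mul.1 h3 with h | h
      · rw [ha] at h; exact hpp ((Nat.prime_dvd_prime_iff_eq hpp' hp₀).1 (hpp'.dvd_of_dvd_pow h))
      · rw [hb] at h; exact hpq ((Nat.prime_dvd_prime_iff_eq hpp' hq₀).1 (hpp'.dvd_of_dvd_pow h))
  subst hp
  have hPQ : (Q₀ : Subgroup X) = (P : Subgroup X) := by
    obtain ⟨g, hg⟩ := MulAction.exists_smul_eq X P Q₀
    rw [← hg, Sylow.smul_eq_of_normal]
  rw [hPQ] at hall hnilp hsup
  haveI := hPn
  obtain ⟨y, hy⟩ := hP₀c.exists_generator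
  have hyP₀ : (P₀ : Subgroup X) = Subgroup.zpowers (y : X) :=
    le_antisymm (fun x hx => by
      obtain ⟨i, hi⟩ := Subgroup.mem_zpowers_iff.1 (hy ⟨x, hx⟩)
      exact Subgroup.mem_zpowers_iff.2 ⟨i, by simpa using congrArg Subtype.val hi⟩)
      (Subgroup.zpowers_le.2 y.2)
  have hcomm : ∀ (H : Subgroup X), H ≠ ⊤ → ∀ x ∈ (P : Subgroup X), ∀ z ∈ (P₀ : Subgroup X), x ∈ H → z ∈ H →
      x * z = z * x := by
    intro H hH x hx z hz hxH hzH
    haveI := hmin H hH
    exact congrArg Subtype.val (H21.commute_of_coprime_of_nilpotent (x := (⟨x, hxH⟩ : H)) (y := ⟨z, hzH⟩)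
      (by rw [Subgroup.orderOf_mk, Subgroup.orderOf_mk]; exact (hall z hz x hx).symm)).eq
  have hmeet : ∀ z ∈ (P₀ : Subgroup X), z ∈ (P : Subgroup X) → z = 1 := fun z hz hz' =>
    orderOf_eq_one_iff.1 (Nat.eq_one_of_dvd_one (by
      rw [← (hall z hz z hz').gcd_eq_one]; exact Nat.dvd_gcd dvd_rfl dvd_rfl))
  let α : MulAut ↥(P : Subgroup X) := MulAut.conjNormal (y : X)
  have hα : ∀ u : ↥(P : Subgroup X), ((α u : ↥(P : Subgroup X)) : X) = (y : X) * u * (y : X)⁻¹ :=
    fun u => MulAut.conjNormal_apply _ _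
  have hαne : α ≠ 1 := by
    intro h1
    apply hnilp
    intro x hx z hz
    rw [hyP₀] at hx
    obtain ⟨i, rfl⟩ := Subgroup.mem_zpowers_iff.1 hx
    have h2 : (y : X) * z * (y : X)⁻¹ = z := by
      rw [← hα ⟨z, hz⟩, h1]; rfl
    exact ((show Commute (y : X) z from mul_inv_eq_iff_eq_mul.1 h2).zpow_left i).eq
  have hαq : α ^ p₀ = 1 := by
    obtain ⟨k, hk⟩ := IsPGroup.iff_orderOf.1 P₀.2 y
    have hk' : orderOf (y : X) = p₀ ^ k := by rw [Subgroup.orderOf_coe]; exact hk
    rcases k with _ | k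
    · exfalso
      rw [pow_zero] at hk'
      apply hαne
      rw [show α = MulAut.conjNormal (y : X) from rfl, orderOf_eq_one_iff.1 hk', map_one]
    have hH : (P : Subgroup X) ⊔ Subgroup.zpowers ((y : X) ^ p₀) ≠ ⊤ := by
      intro ht
      have h1 : (y : X) ∈ ((P : Subgroup X) ⊔ Subgroup.zpowers ((y : X) ^ p₀) : Subgroup X) := by
        rw [ht]; exact Subgroup.mem_top _
      obtain ⟨u, hu, v, hv, huv⟩ := Subgroup.mem_sup_of_normal_left.1 h1
      obtain ⟨i, rfl⟩ := Subgroup.mem_zpowers_iff.1 hv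
      have hu1 : u = (y : X) ^ (1 - (p₀ : ℤ) * i) := by
        rw [zpow_sub, zpow_one, zpow_mul, zpow_natCast]
        exact eq_mul_inv_of_mul_eq huv
      have h2 := hmeet u (by rw [hu1]; exact Subgroup.zpow_mem _ y.2 _) hu
      rw [hu1, ← orderOf_dvd_iff_zpow_eq_one, hk'] at h2
      have h3 : (p₀ : ℤ) ∣ 1 - (p₀ : ℤ) * i :=
        dvd_trans (by push_cast; exact dvd_pow_self _ (Nat.succ_ne_zero k)) h2
      have h4 : (p₀ : ℤ) ∣ 1 := by simpa using dvd_add h3 (dvd_mul_right (p₀ : ℤ) i)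
      exact hp₀.one_lt.ne' (by exact_mod_cast Int.eq_one_of_dvd_one (Int.natCast_nonneg _) h4)
    refine MulEquiv.ext fun u => Subtype.ext ?_
    rw [show α ^ p₀ = MulAut.conjNormal ((y : X) ^ p₀) from (map_pow _ _ _).symm, MulAut.conjNormal_apply]
    show (y : X) ^ p₀ * u * ((y : X) ^ p₀)⁻¹ = u
    rw [mul_inv_eq_iff_eq_mul]
    exact (hcomm _ hH u u.2 _ (Subgroup.pow_mem _ y.2 _) (Subgroup.mem_sup_left u.2)
      (Subgroup.mem_sup_right (Subgroup.mem_zpowers _))).symm
  refine ⟨α, p₀, hp₀, hne₀, hαq, hαne, fun R hR hRne x hx => Subtype.ext ?_⟩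
  let R' : Subgroup X := R.map (P : Subgroup X).subtype
  have hmapR : R.map α.toMonoidHom = R := by
    refine Subgroup.eq_of_le_of_card_ge (Subgroup.map_le_iff_le_comap.2 hR) ?_
    rw [Subgroup.card_map_of_injective (f := α.toMonoidHom) α.injective]
  have hnorm : Subgroup.zpowers (y : X) ≤ Subgroup.normalizer (R' : Set X) := by
    rw [Subgroup.zpowers_le, Subgroup.mem_normalizer_iff]
    intro z
    constructor
    · rintro ⟨u, hu, rfl⟩
      exact ⟨α u, hR u hu, hα u⟩
    · rintro ⟨u, hu, huz⟩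
      rw [← hmapR] at hu
      obtain ⟨w, hw, rfl⟩ := hu
      refine ⟨w, hw, ?_⟩
      show (w : X) = z
      have h5 : (y : X) * w * (y : X)⁻¹ = (y : X) * z * (y : X)⁻¹ := (hα w).symm.trans huz
      simpa using h5
  have hH : R' ⊔ Subgroup.zpowers (y : X) ≠ ⊤ := by
    intro ht
    apply hRne
    refine eq_top_iff.2 fun u _ => ?_
    have h1 : (u : X) ∈ ((R' ⊔ Subgroup.zpowers (y : X) : Subgroup X) : Set X) := by
      rw [ht]; exact Subgroup.mem_top _
    rw [Subgroup.coe_mul_of_right_le_normalizer_left _ _ hnorm] at h1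
    obtain ⟨r, ⟨w, hw, rfl⟩, v, hv, hrv⟩ := Set.mem_mul.1 h1
    have hv1 : v = 1 := by
      refine hmeet v (by rw [hyP₀]; exact hv) ?_
      rw [show v = ((w : X))⁻¹ * u from eq_inv_mul_of_mul_eq hrv]
      exact Subgroup.mul_mem _ (Subgroup.inv_mem _ w.2) u.2
    rw [hv1, mul_one] at hrv
    rw [← show w = u from Subtype.ext hrv]
    exact hw
  rw [hα]
  rw [mul_inv_eq_iff_eq_mul]
  exact (hcomm _ hH x x.2 _ y.2 (Subgroup.mem_sup_left ⟨x, hx, rfl⟩)
    (Subgroup.mem_sup_right (Subgroup.mem_zpowers _))).symm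

section Structure

variable [Finite P] {p q : ℕ} [Fact p.Prime] {α : MulAut P}

theorem AutData.eq_one_of_shift (h : AutData p α q) (hP : IsPGroup p P) {g d : P} (hg : α g = g * d)
    (hd : α d = d) : d = 1 := by
  have hpow : ∀ n : ℕ, (α ^ n) g = g * d ^ n := by
    intro n
    induction n with
    | zero => simp
    | succ n ih =>
      rw [pow_succ', MulAut.mul_apply, ih, map_mul, map_pow, hg, hd, mul_assoc, ← pow_succ']
  have h1 : d ^ q = 1 := by
    have := hpow q
    rw [h.pow_eq, MulAut.one_apply] at this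
    exact mul_left_cancel (a := g) (by rw [← this, mul_one])
  obtain ⟨k, hk⟩ := IsPGroup.iff_orderOf.1 hP d
  have h2 := orderOf_dvd_of_pow_eq_one h1
  rw [hk] at h2
  have hco : (p ^ k).Coprime q := Nat.Coprime.pow_left k ((Nat.coprime_primes Fact.out h.prime).2 h.ne.symm)
  exact orderOf_eq_one_iff.1 (hk.trans (hco.eq_one_of_dvd h2))

/-- Elements commuting with all `g⁻¹ α g` are central. -/
theorem AutData.mem_center_of_commute (h : AutData p α q) (hP : IsPGroup p P) {a : P}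
    (ha : ∀ g, Commute a (g⁻¹ * α g)) : a ∈ Subgroup.center P := by
  let D : Subgroup P := Subgroup.closure (Set.range fun g => g⁻¹ * α g)
  have hD : D = ⊤ := by
    by_contra hne
    have hinv : ∀ x ∈ D, α x ∈ D := by
      intro x hx
      induction hx using Subgroup.closure_induction with
      | mem u hu =>
        obtain ⟨g, rfl⟩ := hu
        rw [map_mul, map_inv]
        exact Subgroup.subset_closure ⟨α g, rfl⟩
      | one => simp
      | mul u v _ _ hu hv => rw [map_mul]; exact D.mul_mem hu hv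
      | inv u _ hu => rw [map_inv]; exact D.inv_mem hu
    apply h.ne_one
    refine MulEquiv.ext fun g => ?_
    have hd : g⁻¹ * α g = 1 := h.eq_one_of_shift hP (g := g) (by rw [mul_inv_cancel_left])
      (h.fix D hinv hne _ (Subgroup.subset_closure ⟨g, rfl⟩))
    exact (inv_mul_eq_one.1 hd).symm
  refine Subgroup.mem_center_iff.2 fun g => ?_
  have hle : D ≤ Subgroup.centralizer {a} := (Subgroup.closure_le _).2 (by
    rintro _ ⟨g, rfl⟩
    exact Subgroup.mem_centralizer_singleton_iff.2 (ha g).eq.symm)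
  exact Subgroup.mem_centralizer_singleton_iff.1 (hle (hD ▸ Subgroup.mem_top g))

theorem AutData.center_fixed (h : AutData p α q) (hnc : ¬ IsMulCommutative P) {z : P}
    (hz : z ∈ Subgroup.center P) : α z = z := by
  refine h.fix (Subgroup.center P) (fun x hx => Subgroup.mem_center_iff.2 fun g => ?_) ?_ z hz
  · obtain ⟨g, rfl⟩ := α.surjective g
    rw [← map_mul, ← map_mul, Subgroup.mem_center_iff.1 hx]
  · intro ht
    exact hnc ⟨⟨fun u v => Subgroup.mem_center_iff.1 (ht ▸ Subgroup.mem_top v : v ∈ Subgroup.center P) u⟩⟩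

theorem AutData.frattini_le_center (h : AutData p α q) (hP : IsPGroup p P) [Nontrivial P] :
    frattini P ≤ Subgroup.center P := by
  have hchar : ∀ x ∈ frattini P, α x ∈ frattini P := fun x hx => by
    have := (Subgroup.characteristic_iff_map_eq.1 (frattini_characteristic (G := P))) α
    exact this ▸ ⟨x, hx, rfl⟩
  have hfix := h.fix _ hchar (fun ht => by
    have : (⊥ : Subgroup P) = ⊤ := frattini_nongenerating (show ⊥ ⊔ frattini P = ⊤ by rw [ht]; simp)
    exact bot_ne_top this)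
  intro z hz
  refine h.mem_center_of_commute hP fun g => ?_
  have hn : g * z * g⁻¹ ∈ frattini P := Subgroup.Normal.conj_mem inferInstance z hz g
  have h1 := hfix _ hn
  rw [map_mul, map_mul, map_inv, hfix z hz] at h1
  show z * (g⁻¹ * α g) = g⁻¹ * α g * z
  calc z * (g⁻¹ * α g) = g⁻¹ * (g * z * g⁻¹) * α g := by group
    _ = g⁻¹ * (α g * z * (α g)⁻¹) * α g := by rw [h1]
    _ = g⁻¹ * α g * z := by group

theorem AutData.commutator_mem_center (h : AutData p α q) (hP : IsPGroup p P) (u v : P) :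
    ⁅u, v⁆ ∈ Subgroup.center P ∧ u ^ p ∈ Subgroup.center P := by
  rcases subsingleton_or_nontrivial P with hs | hs
  · exact ⟨by rw [Subsingleton.elim ⁅u, v⁆ 1]; exact one_mem _, by rw [Subsingleton.elim (u ^ p) 1]; exact one_mem _⟩
  exact ⟨h.frattini_le_center hP (H24.commutator_le_frattini hP (Subgroup.commutator_mem_commutator
    (Subgroup.mem_top u) (Subgroup.mem_top v))), h.frattini_le_center hP (H24.pow_mem_frattini hP u)⟩

/-- Fixed elements are central. -/
theorem AutData.mem_center_of_fixed (h : AutData p α q) (hP : IsPGroup p P) (hnc : ¬ IsMulCommutative P)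
    {a : P} (ha : α a = a) : a ∈ Subgroup.center P := by
  refine h.mem_center_of_commute hP fun g => ?_
  have hz := (h.commutator_mem_center hP a g).1
  have h1 := h.center_fixed hnc hz
  rw [map_commutatorElement, ha] at h1
  have h2 : a * α g * a⁻¹ * (α g)⁻¹ = a * g * a⁻¹ * g⁻¹ := h1
  have h3 : a⁻¹ * (α g)⁻¹ * g * a = (α g)⁻¹ * g := by
    have h4 : α g * a⁻¹ * (α g)⁻¹ = g * a⁻¹ * g⁻¹ := by
      have := congrArg (fun w => a⁻¹ * w) h2
      simpa [mul_assoc] using this
    calc a⁻¹ * (α g)⁻¹ * g * a = (α g)⁻¹ * (α g * a⁻¹ * (α g)⁻¹) * g * a := by group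
      _ = (α g)⁻¹ * (g * a⁻¹ * g⁻¹) * g * a := by rw [h4]
      _ = (α g)⁻¹ * g := by group
  have h5 : Commute a ((α g)⁻¹ * g) := by
    show a * ((α g)⁻¹ * g) = ((α g)⁻¹ * g) * a
    conv_lhs => rw [← h3]
    group
  have := h5.inv_right
  rwa [mul_inv_rev, inv_inv] at this

/-- Every commutator is a commutator with a given noncentral element. -/
theorem AutData.exists_commutator (h : AutData p α q) (hP : IsPGroup p P) (hnc : ¬ IsMulCommutative P)
    {a : P} (ha : a ∉ Subgroup.center P) (u v : P) : ∃ c, ⁅u, v⁆ = ⁅a, c⁆ := by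
  have hZ : ∀ x y : P, ⁅x, y⁆ ∈ Subgroup.center P := fun x y => (h.commutator_mem_center hP x y).1
  have hmul : ∀ x y z : P, ⁅x, y * z⁆ = ⁅x, y⁆ * ⁅x, z⁆ := by
    intro x y z
    have := Subgroup.mem_center_iff.1 (hZ x z) y
    calc ⁅x, y * z⁆ = x * y * x⁻¹ * (⁅x, z⁆ * y⁻¹) := by simp only [commutatorElement_def]; group
      _ = x * y * x⁻¹ * (y⁻¹ * ⁅x, z⁆) := by
          rw [show ⁅x, z⁆ * y⁻¹ = y⁻¹ * ⁅x, z⁆ from (Subgroup.mem_center_iff.1 (hZ x z) y⁻¹).symm]
      _ = ⁅x, y⁆ * ⁅x, z⁆ := by simp only [commutatorElement_def]; group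
  have hmul' : ∀ x y z : P, ⁅x * y, z⁆ = ⁅x, z⁆ * ⁅y, z⁆ := by
    intro x y z
    calc ⁅x * y, z⁆ = x * ⁅y, z⁆ * (z * x⁻¹ * z⁻¹) := by simp only [commutatorElement_def]; group
      _ = ⁅y, z⁆ * x * (z * x⁻¹ * z⁻¹) := by rw [Subgroup.mem_center_iff.1 (hZ y z) x]
      _ = ⁅y, z⁆ * ⁅x, z⁆ := by simp only [commutatorElement_def]; group
      _ = _ := (Subgroup.mem_center_iff.1 (hZ x z) _)
  let f : P →* P := MonoidHom.mk' (fun c => ⁅a, c⁆) (hmul a)
  let W : Subgroup P :=
    { carrier := {b | ∀ c, ⁅b, c⁆ ∈ f.range}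
      one_mem' := fun c => by simp
      mul_mem' := fun {x y} hx hy c => by rw [hmul']; exact mul_mem (hx c) (hy c)
      inv_mem' := fun {x} hx c => by
        have h1 : ⁅x⁻¹, c⁆ * ⁅x, c⁆ = 1 := by rw [← hmul', inv_mul_cancel, commutatorElement_one_left]
        rw [eq_inv_of_mul_eq_one_left h1]
        exact inv_mem (hx c) }
  have hinv : ∀ b ∈ W, α b ∈ W := by
    intro b hb c
    obtain ⟨c', rfl⟩ := α.surjective c
    rw [← map_commutatorElement, h.center_fixed hnc (hZ b c')]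
    exact hb c'
  have haW : a ∈ W := fun c => ⟨c, rfl⟩
  have hW : W = ⊤ := by
    by_contra hne
    exact ha (h.mem_center_of_fixed hP hnc (h.fix W hinv hne a haW))
  obtain ⟨c, hc⟩ := (hW ▸ Subgroup.mem_top u : u ∈ W) v
  exact ⟨c, hc.symm⟩

end Structure

end Cfsg.Agent.H91.Schmidt
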