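import Cfsg.Agent.H91.Small.SchmidtAut
import Cfsg.Agent.H91.Small.QuadraticRankOne
import Cfsg.Agent.H20.PLengthExponent
import Cfsg.Agent.H89.UpperPFrattini
import Cfsg.Agent.H44.HallHigman
import Cfsg.Agent.H59.PSolvable
import Cfsg.Agent.H84.PSolvable
import Cfsg.Agent.H19.Cores
import Mathlib

/-!
A `p`-solvable group with trivial `p'`-core whose Sylow `p`-subgroup is that of a minimal
non-nilpotent group has a normal Sylow `p`-subgroup.
-/

set_option maxHeartbeats 1000000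

namespace Cfsg.Agent.H91.Schmidt

open scoped commutatorElement
open Module

universe u

/-- The faithful action of `X / O_p(X)` on `O_p(X) / Φ(O_p(X))`. -/
theorem with_module {X : Type u} [Group X] [Finite X] {p : ℕ} [Fact p.Prime]
    (hsol : Cfsg.IsPSolvable p X) (hpp : Cfsg.pPrimeCore p X = ⊥)
    [(Cfsg.pCore p X).Normal] {C : Prop}
    (h : ∀ (M : Type u) [CommGroup M] [Finite M] [Module (ZMod p) (Additive M)]
      (φ : X ⧸ Cfsg.pCore p X →* MulAut M), (∀ l, φ l = 1 → l = 1) →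
      ∀ π : Cfsg.pCore p X →* M, Function.Surjective π → (∀ w, π w = 1 ↔ w ∈ frattini (Cfsg.pCore p X)) →
        (∀ (z : X) u, φ (z : X ⧸ Cfsg.pCore p X) (π u) = π (MulAut.conjNormal z u)) → C) : C := by
  classical
  set O := Cfsg.pCore p X
  have hcO : Subgroup.centralizer (O : Set X) ≤ O := H59.centralizer_pCore_le_of_isPSolvable hsol hpp
  have hOp : IsPGroup p O := H19.pCore_isPGroup p
  -- the module
  obtain ⟨hOc, hOpow⟩ := H19.commutator_pow_mem_frattini hOp
  let M := O ⧸ frattini O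
  letI : CommGroup M :=
    { (inferInstance : Group M) with
      mul_comm := fun a b => by
        induction a using QuotientGroup.induction_on with
        | _ a =>
          induction b using QuotientGroup.induction_on with
          | _ b =>
            rw [← QuotientGroup.mk_mul, ← QuotientGroup.mk_mul, QuotientGroup.eq]
            have h := hOc (Subgroup.commutator_mem_commutator (Subgroup.mem_top b⁻¹)
              (Subgroup.mem_top a⁻¹))
            simpa [commutatorElement_def, mul_assoc] using h }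
  have hMp : ∀ v : Additive M, p • v = 0 := fun v => by
    obtain ⟨v, rfl⟩ := Additive.ofMul.surjective v
    induction v using QuotientGroup.induction_on with
    | _ u =>
      rw [← ofMul_pow, ← QuotientGroup.mk_pow, ofMul_eq_zero, QuotientGroup.eq_one_iff]
      exact hOpow u
  letI : Module (ZMod p) (Additive M) := AddCommGroup.zmodModule hMp
  let φX : X →* MulAut M := H20.PExp.frattAct O
  have hker : ∀ z : X, φX z = 1 ↔ z ∈ O := by
    intro z
    constructor
    · intro h'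
      refine H89.mem_pCore_of_trivial_on_frattini hcO z fun a ha => ?_
      have h1 : ((MulAut.conjNormal z (⟨a, ha⟩ : O) : O) : M) = ((⟨a, ha⟩ : O) : M) :=
        congrArg (fun f : MulAut M => f ((⟨a, ha⟩ : O) : M)) h'
      have h2 : MulAut.conjNormal z (⟨a, ha⟩ : O) * (⟨a, ha⟩ : O)⁻¹ ∈ frattini O := by
        rw [← QuotientGroup.eq_one_iff, QuotientGroup.mk_mul, QuotientGroup.mk_inv, h1, mul_inv_cancel]
      exact ⟨_, h2, by simp [MulAut.conjNormal_apply]⟩
    · intro hz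
      refine MulEquiv.ext fun w => ?_
      induction w using QuotientGroup.induction_on with
      | _ u =>
        show ((MulAut.conjNormal z u : O) : M) = (u : M)
        rw [QuotientGroup.eq]
        have h := hOc (Subgroup.commutator_mem_commutator (Subgroup.mem_top (⟨z, hz⟩ : O))
          (Subgroup.mem_top u⁻¹))
        have e : (MulAut.conjNormal z u)⁻¹ * u = ⁅(⟨z, hz⟩ : O), u⁻¹⁆ := by
          apply Subtype.ext
          simp [commutatorElement_def, MulAut.conjNormal_apply, mul_assoc]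
        rw [e]; exact h
  let φ : X ⧸ O →* MulAut M := QuotientGroup.lift O φX fun z hz => (hker z).2 hz
  have hφinj : ∀ l, φ l = 1 → l = 1 := by
    intro l hl
    obtain ⟨z, rfl⟩ := QuotientGroup.mk_surjective l
    exact (QuotientGroup.eq_one_iff z).2 ((hker z).1 hl)
  exact h M φ hφinj (QuotientGroup.mk' (frattini O)) (QuotientGroup.mk'_surjective _)
    (fun w => QuotientGroup.eq_one_iff w) fun z u => rfl

theorem sylow_le_pCore {X : Type u} [Group X] [Finite X] {p : ℕ} [Fact p.Prime]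
    (hsol : Cfsg.IsPSolvable p X) (hpp : Cfsg.pPrimeCore p X = ⊥) (Q : Sylow p X)
    {α : MulAut ↥(Q : Subgroup X)} {q : ℕ} (hα : AutData p α q) :
    (Q : Subgroup X) ≤ Cfsg.pCore p X := by
  classical
  have hp := (Fact.out : p.Prime)
  haveI hOn : (Cfsg.pCore p X).Normal := H19.pCore_normal p X
  set O := Cfsg.pCore p X with hOdef
  have hcO : Subgroup.centralizer (O : Set X) ≤ O := H59.centralizer_pCore_le_of_isPSolvable hsol hpp
  have hOQ : O ≤ (Q : Subgroup X) := H19.pCore_le_sylow Q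
  have hOp : IsPGroup p O := H19.pCore_isPGroup p
  have hQp : IsPGroup p ↥(Q : Subgroup X) := Q.2
  by_contra hnle
  have hcenO : ∀ z : ↥(Q : Subgroup X), z ∈ Subgroup.center ↥(Q : Subgroup X) → (z : X) ∈ O := fun z hz =>
    hcO (Subgroup.mem_centralizer_iff.2 fun y hy =>
      congrArg Subtype.val (Subgroup.mem_center_iff.1 hz ⟨y, hOQ hy⟩))
  have hnc : ¬ IsMulCommutative ↥(Q : Subgroup X) := fun h => hnle fun x hx =>
    hcenO ⟨x, hx⟩ (Subgroup.mem_center_iff.2 fun g => h.is_comm.comm g ⟨x, hx⟩)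
  have hnor : ∀ x : ↥(Q : Subgroup X), (x : X) ∈ O → ∀ g : ↥(Q : Subgroup X), ((g * x * g⁻¹ : ↥(Q : Subgroup X)) : X) ∈ O :=
    fun x hx g => hOn.conj_mem _ hx _
  -- the module
  refine with_module hsol hpp (C := False) fun M _ _ _ φ hφinj π hπ hπker hcompat => ?_
  let ρ : X ⧸ O →* End (ZMod p) (Additive M) :=
    { toFun := fun γ => (MonoidHom.toAdditive (φ γ).toMonoidHom).toZModLinearMap p
      map_one' := LinearMap.ext fun v => by
        show Additive.ofMul ((φ 1).toMonoidHom (Additive.toMul v)) = v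
        rw [map_one]; rfl
      map_mul' := fun γ δ => LinearMap.ext fun v => by
        show Additive.ofMul (φ (γ * δ) (Additive.toMul v)) = Additive.ofMul (φ γ (φ δ (Additive.toMul v)))
        rw [map_mul]; rfl }
  have hρ : ∀ (g : X) (w : O), ρ (g : X ⧸ O) (Additive.ofMul (π w)) =
      Additive.ofMul (π (MulAut.conjNormal g w)) := fun g w => congrArg Additive.ofMul (hcompat g w)
  have hinj : Function.Injective ρ := by
    rw [injective_iff_map_eq_one]
    intro γ hγ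
    refine hφinj γ (MulEquiv.ext fun w => ?_)
    exact congrArg Additive.toMul (LinearMap.congr_fun hγ (Additive.ofMul w))
  obtain ⟨hOc, hOpow⟩ := H19.commutator_pow_mem_frattini hOp
  let ι : O →* ↥(Q : Subgroup X) := Subgroup.inclusion hOQ
  let Zs : Subgroup O := (Subgroup.center ↥(Q : Subgroup X)).comap ι
  have hΦZ : frattini O ≤ Zs := by
    refine H19.frattini_le_of_commutator_pow (p := p) Zs ?_ fun x => ?_
    · rw [commutator_def, Subgroup.commutator_le]
      intro a _ b _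
      show ι ⁅a, b⁆ ∈ Subgroup.center _
      rw [map_commutatorElement]
      exact (hα.commutator_mem_center hQp _ _).1
    · show ι (x ^ p) ∈ Subgroup.center _
      rw [map_pow]
      exact (hα.commutator_mem_center hQp (ι x) (ι x)).2
  let Zb : Submodule (ZMod p) (Additive M) :=
    AddSubgroup.toZModSubmodule p (Subgroup.toAddSubgroup (Zs.map π))
  have hZb : ∀ w : O, Additive.ofMul (π w) ∈ Zb ↔ ι w ∈ Subgroup.center ↥(Q : Subgroup X) := by
    intro w
    show π w ∈ Zs.map π ↔ w ∈ Zs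
    refine ⟨fun h => ?_, fun h => ⟨w, h, rfl⟩⟩
    obtain ⟨w', hw', he⟩ := h
    have := Zs.mul_mem hw' (hΦZ ((hπker (w'⁻¹ * w)).1 (by rw [map_mul, map_inv, he, inv_mul_cancel])))
    simpa using this
  have hsub : ∀ (g : ↥(Q : Subgroup X)) (w : O) (h : ((g * ι w * g⁻¹ * (ι w)⁻¹ : ↥(Q : Subgroup X)) : X) ∈ O),
      (ρ ((g : X) : X ⧸ O) - 1) (Additive.ofMul (π w)) = Additive.ofMul (π (⟨_, h⟩ : O)) := by
    intro g w h
    rw [LinearMap.sub_apply, End.one_apply, hρ, ← ofMul_div, div_eq_mul_inv, ← map_inv,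
      ← map_mul]
    congr 2
  have hmemO : ∀ (g : ↥(Q : Subgroup X)) (w : O), ((g * ι w * g⁻¹ * (ι w)⁻¹ : ↥(Q : Subgroup X)) : X) ∈ O :=
    fun g w => O.mul_mem (hnor (ι w) w.2 g) (O.inv_mem w.2)
  let A : Subgroup (X ⧸ O) := (Q : Subgroup X).map (QuotientGroup.mk' O)
  haveI hKn : (Cfsg.pPrimeCore p (X ⧸ O)).Normal := H19.pPrimeCore_normal p _
  have hsolq : Cfsg.IsPSolvable p (X ⧸ O) :=
    H84.isPSolvable_of_surjective _ (QuotientGroup.mk'_surjective O) hsol
  haveI hV : Nontrivial (Additive M) := by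
    by_contra hV
    rw [not_nontrivial_iff_subsingleton] at hV
    exact hnle fun x _ => (QuotientGroup.eq_one_iff x).1 (hφinj _ (MulEquiv.ext fun w =>
      Additive.ofMul.injective (Subsingleton.elim _ _)))
  obtain ⟨hp23, a, haA, ha1, hAz, hfix, v₀, hv₀, hgen⟩ := Quadratic.rank_one ρ hinj
    (Cfsg.pPrimeCore p (X ⧸ O)) A (H19.pPrimeCore_coprime p)
    (H44.centralizer_pPrimeCore_le hsolq (H19.pCore_quotient_pCore p))
    (by
      rintro _ ⟨x, hx, rfl⟩
      rw [← map_pow, QuotientGroup.mk'_apply, QuotientGroup.eq_one_iff]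
      exact hcenO _ (hα.commutator_mem_center hQp (⟨x, hx⟩ : ↥(Q : Subgroup X)) ⟨x, hx⟩).2)
    (by
      rintro _ ⟨x, hx, rfl⟩ _ ⟨y, hy, rfl⟩
      rw [← commutatorElement_eq_one_iff_mul_comm, ← map_commutatorElement, QuotientGroup.mk'_apply,
        QuotientGroup.eq_one_iff]
      exact hcenO _ (hα.commutator_mem_center hQp (⟨x, hx⟩ : ↥(Q : Subgroup X)) ⟨y, hy⟩).1)
    (by
      intro h
      apply hnle
      intro x hx
      have : (x : X ⧸ O) ∈ A := ⟨x, hx, rfl⟩
      rw [h, Subgroup.mem_bot, QuotientGroup.eq_one_iff] at this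
      exact this)
    Zb
    (by
      rintro _ ⟨g, hg, rfl⟩ v
      obtain ⟨w, rfl⟩ := Additive.ofMul.surjective v
      obtain ⟨w, rfl⟩ := hπ w
      rw [QuotientGroup.mk'_apply, hsub ⟨g, hg⟩ w (hmemO _ w), hZb]
      exact (hα.commutator_mem_center hQp (⟨g, hg⟩ : ↥(Q : Subgroup X)) (ι w)).1)
    (by
      rintro _ ⟨g, hg, rfl⟩ v hv
      obtain ⟨w, rfl⟩ := Additive.ofMul.surjective v
      obtain ⟨w, rfl⟩ := hπ w
      rw [QuotientGroup.mk'_apply, hρ]
      congr 2
      apply Subtype.ext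
      rw [MulAut.conjNormal_apply]
      have := congrArg Subtype.val (Subgroup.mem_center_iff.1 ((hZb w).1 hv) ⟨g, hg⟩)
      exact mul_inv_eq_iff_eq_mul.2 this)
    (by
      intro v hv
      obtain ⟨w₁, rfl⟩ := Additive.ofMul.surjective v
      obtain ⟨w₁, rfl⟩ := hπ w₁
      rintro _ ⟨g, hg, rfl⟩ v'
      obtain ⟨w, rfl⟩ := Additive.ofMul.surjective v'
      obtain ⟨w, rfl⟩ := hπ w
      obtain ⟨c, hc⟩ := hα.exists_commutator hQp hnc (a := ι w₁) (fun h => hv ((hZb w₁).2 h))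
        (⟨g, hg⟩ : ↥(Q : Subgroup X)) (ι w)
      refine ⟨((c⁻¹ : ↥(Q : Subgroup X)) : X), ⟨_, (c⁻¹).2, rfl⟩, ?_⟩
      rw [QuotientGroup.mk'_apply, hsub ⟨g, hg⟩ w (hmemO _ w), hsub c⁻¹ w₁ (hmemO _ w₁)]
      congr 3
      apply congrArg Subtype.val (a₁ := (⟨g, hg⟩ : ↥(Q : Subgroup X)) * ι w * (⟨g, hg⟩ : ↥(Q : Subgroup X))⁻¹ * (ι w)⁻¹)
      have hcen := Subgroup.mem_center_iff.1 (hα.commutator_mem_center hQp (ι w₁) c).1 c⁻¹
      calc (⟨g, hg⟩ : ↥(Q : Subgroup X)) * ι w * (⟨g, hg⟩ : ↥(Q : Subgroup X))⁻¹ * (ι w)⁻¹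
          = ⁅ι w₁, c⁆ := hc
        _ = (c⁻¹ * ⁅ι w₁, c⁆) * c := by rw [hcen, inv_mul_cancel_right]
        _ = c⁻¹ * ι w₁ * c⁻¹⁻¹ * (ι w₁)⁻¹ := by rw [commutatorElement_def]; group)
  -- the two elements
  obtain ⟨g, hg, rfl⟩ := haA
  obtain ⟨u, rfl⟩ := Additive.ofMul.surjective v₀
  obtain ⟨u, rfl⟩ := hπ u
  let G : ↥(Q : Subgroup X) := ⟨g, hg⟩
  let U : ↥(Q : Subgroup X) := ι u
  have hUZ : U ∉ Subgroup.center ↥(Q : Subgroup X) := fun h => hv₀ ((hZb u).2 h)
  let Op : Subgroup ↥(Q : Subgroup X) := O.subgroupOf (Q : Subgroup X)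
  have hGO : G ∉ Op := fun h => ha1 ((QuotientGroup.eq_one_iff g).2 h)
  have hUO : U ∈ Op := u.2
  have hZO : Subgroup.center ↥(Q : Subgroup X) ≤ Op := fun z hz => hcenO z hz
  have hOform : ∀ y ∈ Op, ∃ (i : ℕ) (z : ↥(Q : Subgroup X)), z ∈ Subgroup.center ↥(Q : Subgroup X) ∧ y = z * U ^ i := by
    intro y hy
    obtain ⟨i, hi⟩ := hgen (Additive.ofMul (π (⟨(y : X), hy⟩ : O)))
    rw [← ofMul_pow, ← map_pow π, ← ofMul_div, div_eq_mul_inv, ← map_inv π,
      ← map_mul π, hZb] at hi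
    refine ⟨i, _, hi, ?_⟩
    rw [map_mul, map_inv, map_pow]
    exact (inv_mul_cancel_right _ _).symm
  have hform : ∀ x : ↥(Q : Subgroup X), ∃ (i j : ℕ) (z : ↥(Q : Subgroup X)), z ∈ Subgroup.center ↥(Q : Subgroup X) ∧ x = z * U ^ i * G ^ j := by
    intro x
    have hx : ((x : X) : X ⧸ O) ∈ A := ⟨x, x.2, rfl⟩
    rw [hAz] at hx
    obtain ⟨j, hj⟩ := (isOfFinOrder_of_finite _).mem_powers_iff_mem_zpowers.2 hx
    have hy : x * (G ^ j)⁻¹ ∈ Op := by
      show ((x : X) * (((G ^ j)⁻¹ : ↥(Q : Subgroup X)) : X)) ∈ O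
      rw [← QuotientGroup.eq_one_iff, QuotientGroup.mk_mul]
      simp only [InvMemClass.coe_inv, SubmonoidClass.coe_pow, QuotientGroup.mk_inv, QuotientGroup.mk_pow, G]
      rw [← hj]
      exact mul_inv_cancel _
    obtain ⟨i, z, hz, he⟩ := hOform _ hy
    exact ⟨i, j, z, hz, by rw [← he, inv_mul_cancel_right]⟩
  have hαcen : ∀ x : ↥(Q : Subgroup X), α x ∈ Subgroup.center ↥(Q : Subgroup X) → x ∈ Subgroup.center ↥(Q : Subgroup X) := fun x hx => by
    have := α.injective (hα.center_fixed hnc hx)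
    rwa [this] at hx
  have hαU : α U ∉ Op := by
    intro h
    obtain ⟨i, z, hz, he⟩ := hOform _ h
    refine hUZ (hα.mem_center_of_fixed hQp hnc (hα.fix Op (fun y hy => ?_) (fun ht => hGO (ht ▸ Subgroup.mem_top _)) U hUO))
    obtain ⟨i', z', hz', rfl⟩ := hOform y hy
    rw [map_mul, map_pow, hα.center_fixed hnc hz', he]
    exact Op.mul_mem (hZO hz') (Op.pow_mem (Op.mul_mem (hZO hz) (Op.pow_mem hUO i)) i')
  have hq2 : q ≠ 2 := by
    intro hq
    apply hαU
    have hαα : ∀ x, α (α x) = x := fun x => by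
      have := hα.pow_eq
      rw [hq, pow_two] at this
      exact (congrArg (fun f : MulAut ↥(Q : Subgroup X) => f x) this)
    have hcc := (hα.commutator_mem_center hQp U (α U)).1
    have h1 : α (α U * U) = (α U * U) * ⁅U, α U⁆ := by
      rw [map_mul, hαα]
      calc U * α U = ⁅U, α U⁆ * (α U * U) := by simp only [commutatorElement_def]; group
        _ = (α U * U) * ⁅U, α U⁆ := (Subgroup.mem_center_iff.1 hcc _).symm
    have h2 := hα.eq_one_of_shift hQp h1 (hα.center_fixed hnc hcc)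
    rw [h2, mul_one] at h1
    have hc := hα.mem_center_of_fixed hQp hnc h1
    rw [show α U = (α U * U) * U⁻¹ from (mul_inv_cancel_right _ _).symm]
    exact Op.mul_mem (hZO hc) (Op.inv_mem hUO)
  have hU' : ∀ i : ℕ, U ^ i ∈ Subgroup.center ↥(Q : Subgroup X) → p ∣ i := by
    intro i hi
    by_contra hd
    have hUp := (hα.commutator_mem_center hQp U U).2
    have h1 : U ^ (Nat.gcd i p) ∈ Subgroup.center ↥(Q : Subgroup X) := by
      rw [← zpow_natCast U (Nat.gcd i p), Nat.gcd_eq_gcd_ab, zpow_add, zpow_mul, zpow_mul, zpow_natCast, zpow_natCast]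
      exact Subgroup.mul_mem _ (Subgroup.zpow_mem _ hi _) (Subgroup.zpow_mem _ hUp _)
    rw [Nat.Coprime.gcd_eq_one (hp.coprime_iff_not_dvd.2 hd).symm, pow_one] at h1
    exact hUZ h1
  have hG' : ∀ j : ℕ, G ^ j ∈ Op → p ∣ j := by
    intro j hj
    by_contra hd
    have hGp := hZO (hα.commutator_mem_center hQp G G).2
    have h1 : G ^ (Nat.gcd j p) ∈ Op := by
      rw [← zpow_natCast G (Nat.gcd j p), Nat.gcd_eq_gcd_ab, zpow_add, zpow_mul, zpow_mul, zpow_natCast, zpow_natCast]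
      exact Subgroup.mul_mem _ (Subgroup.zpow_mem _ hj _) (Subgroup.zpow_mem _ hGp _)
    rw [Nat.Coprime.gcd_eq_one (hp.coprime_iff_not_dvd.2 hd).symm, pow_one] at h1
    exact hGO h1
  -- the quotient by the centre
  let C := Subgroup.center ↥(Q : Subgroup X)
  have hcard : Nat.card (↥(Q : Subgroup X) ⧸ C) = p ^ 2 := by
    let F : Fin p × Fin p → ↥(Q : Subgroup X) ⧸ C := fun e => ((U ^ (e.1 : ℕ) * G ^ (e.2 : ℕ) : ↥(Q : Subgroup X)) : ↥(Q : Subgroup X) ⧸ C)
    have hF : Function.Bijective F := by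
      constructor
      · rintro ⟨i, j⟩ ⟨i', j'⟩ h
        have h0 : (U ^ (i : ℕ) * G ^ (j : ℕ))⁻¹ * (U ^ (i' : ℕ) * G ^ (j' : ℕ)) ∈ C := (QuotientGroup.eq).1 h
        have hjj : ((j : ℕ) : ZMod p) = ((j' : ℕ) : ZMod p) := by
          have h1 : (G ^ (j : ℕ))⁻¹ * G ^ (j' : ℕ) ∈ Op := by
            have h2 : (U ^ (i : ℕ))⁻¹ * U ^ (i' : ℕ) ∈ Op := Op.mul_mem (Op.inv_mem (Op.pow_mem hUO _)) (Op.pow_mem hUO _)
            have h3 : (G ^ (j : ℕ))⁻¹ * ((U ^ (i : ℕ))⁻¹ * U ^ (i' : ℕ)) * G ^ (j : ℕ) ∈ Op := by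
              have := hnor ((U ^ (i : ℕ))⁻¹ * U ^ (i' : ℕ)) h2 (G ^ (j : ℕ))⁻¹
              rwa [inv_inv] at this
            have := Op.mul_mem (Op.inv_mem h3) (hZO h0)
            rwa [show ((G ^ (j : ℕ))⁻¹ * ((U ^ (i : ℕ))⁻¹ * U ^ (i' : ℕ)) * G ^ (j : ℕ))⁻¹ *
              ((U ^ (i : ℕ) * G ^ (j : ℕ))⁻¹ * (U ^ (i' : ℕ) * G ^ (j' : ℕ))) = (G ^ (j : ℕ))⁻¹ * G ^ (j' : ℕ) by group] at this
          rcases le_total (j : ℕ) j' with hle | hle
          · rw [← pow_sub_mul_pow G hle, (Commute.pow_pow_self G _ _).eq, inv_mul_cancel_left] at h1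
            exact (((Nat.modEq_iff_dvd' hle).2 (hG' _ h1)) |> (ZMod.natCast_eq_natCast_iff _ _ p).2)
          · have h1' := Op.inv_mem h1
            rw [mul_inv_rev, inv_inv, ← pow_sub_mul_pow G hle, (Commute.pow_pow_self G _ _).eq, inv_mul_cancel_left] at h1'
            exact (((Nat.modEq_iff_dvd' hle).2 (hG' _ h1')) |> (ZMod.natCast_eq_natCast_iff _ _ p).2).symm
        have hj : j = j' := Fin.ext (Nat.ModEq.eq_of_lt_of_lt ((ZMod.natCast_eq_natCast_iff _ _ p).1 hjj) j.2 j'.2)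
        subst hj
        have h1 : (U ^ (i : ℕ))⁻¹ * U ^ (i' : ℕ) ∈ C := by
          have := (inferInstance : C.Normal).conj_mem _ h0 (G ^ (j : ℕ))
          rwa [show G ^ (j : ℕ) * ((U ^ (i : ℕ) * G ^ (j : ℕ))⁻¹ * (U ^ (i' : ℕ) * G ^ (j : ℕ))) * (G ^ (j : ℕ))⁻¹ =
            (U ^ (i : ℕ))⁻¹ * U ^ (i' : ℕ) by group] at this
        have hii : (i : ℕ) ≡ (i' : ℕ) [MOD p] := by
          rcases le_total (i : ℕ) i' with hle | hle
          · rw [← pow_sub_mul_pow U hle, (Commute.pow_pow_self U _ _).eq, inv_mul_cancel_left] at h1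
            exact (Nat.modEq_iff_dvd' hle).2 (hU' _ h1)
          · have h1' := C.inv_mem h1
            rw [mul_inv_rev, inv_inv, ← pow_sub_mul_pow U hle, (Commute.pow_pow_self U _ _).eq, inv_mul_cancel_left] at h1'
            exact ((Nat.modEq_iff_dvd' hle).2 (hU' _ h1')).symm
        rw [Fin.ext (Nat.ModEq.eq_of_lt_of_lt hii i.2 i'.2)]
      · intro c
        obtain ⟨x, rfl⟩ := QuotientGroup.mk_surjective c
        obtain ⟨i, j, z, hz, rfl⟩ := hform x
        refine ⟨(⟨i % p, Nat.mod_lt _ hp.pos⟩, ⟨j % p, Nat.mod_lt _ hp.pos⟩), ?_⟩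
        show ((U ^ (i % p) * G ^ (j % p) : ↥(Q : Subgroup X)) : ↥(Q : Subgroup X) ⧸ C) = _
        rw [QuotientGroup.mk_mul, QuotientGroup.mk_mul, QuotientGroup.mk_mul, (QuotientGroup.eq_one_iff z).2 hz, one_mul]
        have hpw : ∀ (x : ↥(Q : Subgroup X)) (n : ℕ), ((x ^ (n % p) : ↥(Q : Subgroup X)) : ↥(Q : Subgroup X) ⧸ C) = ((x ^ n : ↥(Q : Subgroup X)) : ↥(Q : Subgroup X) ⧸ C) := by
          intro x n
          conv_rhs => rw [← Nat.mod_add_div n p, pow_add, QuotientGroup.mk_mul, pow_mul, QuotientGroup.mk_pow _ (x ^ p),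
            (QuotientGroup.eq_one_iff (x ^ p)).2 (hα.commutator_mem_center hQp x x).2, one_pow, mul_one]
        rw [hpw, hpw]
    rw [← Nat.card_eq_of_bijective F hF, Nat.card_prod, Nat.card_fin, pow_two]
  rcases hp23 with rfl | rfl
  · -- the prime two
    set b := α U with hb
    have hU1 : (U : ↥(Q : Subgroup X) ⧸ C) ≠ 1 := fun h => hUZ ((QuotientGroup.eq_one_iff U).1 h)
    have hb1 : (b : ↥(Q : Subgroup X) ⧸ C) ≠ 1 := fun h => hUZ (hαcen _ ((QuotientGroup.eq_one_iff b).1 h))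
    have hbU : (b : ↥(Q : Subgroup X) ⧸ C) ≠ U := fun h => hαU (by
      have h' := (inferInstance : C.Normal).conj_mem _ ((QuotientGroup.eq).1 h) b
      rw [show b * (b⁻¹ * U) * b⁻¹ = U * b⁻¹ by group] at h'
      have := Op.mul_mem (Op.inv_mem (hZO h')) hUO
      rwa [show (U * b⁻¹)⁻¹ * U = b by group] at this)
    have hUU : (U : ↥(Q : Subgroup X) ⧸ C) * (U : ↥(Q : Subgroup X) ⧸ C) = 1 := by
      rw [← QuotientGroup.mk_mul, ← pow_two, QuotientGroup.eq_one_iff]
      exact (hα.commutator_mem_center hQp U U).2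
    have hall : ∀ c : ↥(Q : Subgroup X) ⧸ C, c = 1 ∨ c = (U : ↥(Q : Subgroup X) ⧸ C) ∨ c = (b : ↥(Q : Subgroup X) ⧸ C) ∨ c = (U : ↥(Q : Subgroup X) ⧸ C) * b := by
      intro c
      by_contra hcon
      push Not at hcon
      haveI := Fintype.ofFinite (↥(Q : Subgroup X) ⧸ C)
      have h5 : ({c, 1, (U : ↥(Q : Subgroup X) ⧸ C), (b : ↥(Q : Subgroup X) ⧸ C), (U : ↥(Q : Subgroup X) ⧸ C) * b} : Finset (↥(Q : Subgroup X) ⧸ C)).card = 5 := by
        have e1 : (U : ↥(Q : Subgroup X) ⧸ C) * b ≠ 1 := fun h => hbU (by rw [← one_mul (b : ↥(Q : Subgroup X) ⧸ C), ← hUU, mul_assoc, h, mul_one])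
        have e2 : (U : ↥(Q : Subgroup X) ⧸ C) * b ≠ U := fun h => hb1 (by simpa using h)
        have e3 : (U : ↥(Q : Subgroup X) ⧸ C) * b ≠ b := fun h => hU1 (by simpa using h)
        simp [Finset.card_insert_of_notMem, hcon.1, hcon.2.1, hcon.2.2.1, hcon.2.2.2, hU1.symm, hb1.symm,
          e1.symm, e2.symm, e3.symm, hbU.symm]
      have := Finset.card_le_univ ({c, 1, (U : ↥(Q : Subgroup X) ⧸ C), (b : ↥(Q : Subgroup X) ⧸ C), (U : ↥(Q : Subgroup X) ⧸ C) * b} : Finset (↥(Q : Subgroup X) ⧸ C))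
      rw [h5, ← Nat.card_eq_fintype_card, hcard] at this
      omega
    rcases hall (α b : ↥(Q : Subgroup X)) with h | h | h | h
    · exact hUZ (hαcen _ (hαcen _ ((QuotientGroup.eq_one_iff _).1 h)))
    · -- an odd power of `α` would fix the class of `U`
      obtain ⟨m, hm⟩ := hα.prime.odd_of_ne_two hq2
      have hiter : ∀ n : ℕ, (((α ^ (2 * n)) U : ↥(Q : Subgroup X)) : ↥(Q : Subgroup X) ⧸ C) = U := by
        intro n
        induction n with
        | zero => simp
        | succ n ih =>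
          obtain ⟨z, hz, he⟩ : ∃ z ∈ C, (α ^ (2 * n)) U = z * U := ⟨_, by
            have := (QuotientGroup.eq).1 ih.symm
            have h' := (inferInstance : C.Normal).conj_mem _ this U
            simpa [mul_assoc] using h', (inv_mul_cancel_right _ U).symm⟩
          rw [mul_add, mul_one, add_comm, pow_add, MulAut.mul_apply, he, map_mul, pow_two, MulAut.mul_apply,
            hα.center_fixed hnc hz, hα.center_fixed hnc hz, MulAut.mul_apply, QuotientGroup.mk_mul,
            (QuotientGroup.eq_one_iff z).2 hz, one_mul]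
          exact h
      have h2 := hiter (m + 1)
      rw [show 2 * (m + 1) = 2 * m + 1 + 1 by ring, ← hm, pow_succ, MulAut.mul_apply, hα.pow_eq,
        MulAut.one_apply] at h2
      exact hbU h2
    · have h1 := (QuotientGroup.eq).1 h
      have h2 : α ((α b)⁻¹ * b) = (α b)⁻¹ * b := hα.center_fixed hnc h1
      apply hbU
      have : α b = α (U * ((α b)⁻¹ * b)⁻¹) := by
        rw [map_mul, map_inv, h2, mul_inv_rev, inv_inv, ← hb, mul_inv_cancel_left]
      rw [α.injective this, QuotientGroup.mk_mul, QuotientGroup.mk_inv, (QuotientGroup.eq_one_iff _).2 h1, inv_one,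
        mul_one]
    · rw [← QuotientGroup.mk_mul, QuotientGroup.eq] at h
      set z := (α b)⁻¹ * (U * b) with hz
      have hαb : α b = U * b * z⁻¹ := by rw [hz]; group
      have hsq : ∀ x : ↥(Q : Subgroup X), (α x) ^ 2 = x ^ 2 := fun x => by
        rw [← map_pow]; exact hα.center_fixed hnc (hα.commutator_mem_center hQp x x).2
      have hU2 : (α b) ^ 2 = U ^ 2 := (hsq b).trans (hsq U)
      rw [hαb, (show Commute (U * b) z⁻¹ from Subgroup.mem_center_iff.1 (inv_mem h) (U * b)).mul_pow] at hU2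
      have hc := (hα.commutator_mem_center hQp b U).1
      have e : (U * b) ^ 2 = ⁅b, U⁆ * (U ^ 2 * b ^ 2) := by
        calc (U * b) ^ 2 = U * (⁅b, U⁆ * (U * b)) * b := by rw [commutatorElement_def, pow_two]; group
          _ = (U * ⁅b, U⁆) * (U * b * b) := by simp only [mul_assoc]
          _ = _ := by rw [Subgroup.mem_center_iff.1 hc U, pow_two, pow_two]; simp only [mul_assoc]
      rw [e, show b ^ 2 = U ^ 2 from hsq U] at hU2
      have hzO : z⁻¹ ∈ Op := Op.inv_mem (hZO h)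
      have hcomm2 : Commute U z⁻¹ := Subgroup.mem_center_iff.1 (inv_mem h) U
      have hkey : ⁅b, U⁆ = ((U * z⁻¹)⁻¹) ^ 2 := by
        have h3 : ⁅b, U⁆ = U ^ 2 * ((U ^ 2 * U ^ 2) * (z⁻¹) ^ 2)⁻¹ :=
          eq_mul_inv_of_mul_eq ((mul_assoc _ _ _).symm.trans hU2)
        rw [h3, inv_pow (U * z⁻¹) 2, hcomm2.mul_pow]
        have hc2 : Commute (U ^ 2) ((z⁻¹) ^ 2) := (hcomm2.pow_pow 2 2)
        calc U ^ 2 * ((U ^ 2 * U ^ 2) * (z⁻¹) ^ 2)⁻¹
            = U ^ 2 * (U ^ 2 * (z⁻¹) ^ 2)⁻¹ * (U ^ 2)⁻¹ := by group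
          _ = (U ^ 2 * (z⁻¹) ^ 2)⁻¹ := by
              rw [((Commute.refl (U ^ 2)).mul_right hc2).inv_right.eq, mul_inv_cancel_right]
      have hbfix : ρ ((b : X) : X ⧸ O) (Additive.ofMul (π u)) = Additive.ofMul (π u) := by
        have hs := hsub b u (hmemO b u)
        rw [LinearMap.sub_apply, End.one_apply] at hs
        rw [← sub_eq_zero, hs, ofMul_eq_zero, hπker]
        have hw : ((U * z⁻¹ : ↥(Q : Subgroup X)) : X) ∈ O := Op.mul_mem hUO hzO
        have := hOpow ((⟨_, hw⟩ : O)⁻¹)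
        convert this using 1
        apply Subtype.ext
        show ((b * ι u * b⁻¹ * (ι u)⁻¹ : ↥(Q : Subgroup X)) : X) = _
        rw [show b * ι u * b⁻¹ * (ι u)⁻¹ = ⁅b, U⁆ from rfl, hkey]
        rfl
      have hbA : ((b : X) : X ⧸ O) ∈ A := ⟨b, b.2, rfl⟩
      rw [hAz] at hbA
      obtain ⟨j, hj⟩ := (isOfFinOrder_of_finite _).mem_powers_iff_mem_zpowers.2 hbA
      have ho : (QuotientGroup.mk' O g) ^ 2 = 1 := by
        rw [← map_pow, QuotientGroup.mk'_apply, QuotientGroup.eq_one_iff]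
        exact hcenO _ (hα.commutator_mem_center hQp G G).2
      have hjb : (QuotientGroup.mk' O g) ^ j = ((b : X) : X ⧸ O) := hj
      rw [← Nat.mod_add_div j 2, pow_add, pow_mul, ho, one_pow, mul_one] at hjb
      rcases Nat.mod_two_eq_zero_or_one j with hj2 | hj2 <;> rw [hj2] at hjb
      · exact hαU (show (b : X) ∈ O from (QuotientGroup.eq_one_iff (b : X)).1 (hjb.symm.trans (pow_zero _)))
      · rw [pow_one] at hjb
        exact hv₀ (hfix _ (by rw [hjb]; exact hbfix))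
  · -- the prime three
    have hinvC : ∀ (e : MulAut ↥(Q : Subgroup X)), e ∈ Subgroup.zpowers α → ∀ x y : ↥(Q : Subgroup X), x⁻¹ * y ∈ C → (e x)⁻¹ * e y ∈ C := by
      intro e _ x y h
      rw [← map_inv, ← map_mul]
      exact (MulEquivClass.apply_mem_center_iff e).2 h
    letI : MulAction (Subgroup.zpowers α) (↥(Q : Subgroup X) ⧸ C) :=
      { smul := fun e c => Quotient.map' (fun x => (e : MulAut ↥(Q : Subgroup X)) x) (fun x y hxy => by
          rw [QuotientGroup.leftRel_apply] at hxy ⊢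
          exact hinvC e e.2 x y hxy) c
        one_smul := fun c => by
          obtain ⟨x, rfl⟩ := QuotientGroup.mk_surjective c
          rfl
        mul_smul := fun e f c => by
          obtain ⟨x, rfl⟩ := QuotientGroup.mk_surjective c
          rfl }
    haveI := Fact.mk hα.prime
    have hZp : IsPGroup q (Subgroup.zpowers α) := IsPGroup.of_card (n := 1) (by
      rw [Nat.card_zpowers, pow_one, orderOf_eq_prime hα.pow_eq hα.ne_one])
    have hmod := hZp.card_modEq_card_fixedPoints (↥(Q : Subgroup X) ⧸ C)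
    have hfp : Nat.card (MulAction.fixedPoints (Subgroup.zpowers α) (↥(Q : Subgroup X) ⧸ C)) = 1 := by
      refine Nat.card_eq_one_iff_exists.2 ⟨⟨((1 : ↥(Q : Subgroup X)) : ↥(Q : Subgroup X) ⧸ C), fun e => ?_⟩, ?_⟩
      · show (((e : MulAut ↥(Q : Subgroup X)) 1 : ↥(Q : Subgroup X)) : ↥(Q : Subgroup X) ⧸ C) = _
        rw [map_one]
      · rintro ⟨c, hc⟩
        refine Subtype.ext ?_
        obtain ⟨x, rfl⟩ := QuotientGroup.mk_surjective c
        have h1 : ((α x : ↥(Q : Subgroup X)) : ↥(Q : Subgroup X) ⧸ C) = (x : ↥(Q : Subgroup X) ⧸ C) := hc ⟨α, Subgroup.mem_zpowers α⟩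
        have h2 := (QuotientGroup.eq).1 h1.symm
        have h3 := hα.eq_one_of_shift hQp (g := x) (d := x⁻¹ * α x) (mul_inv_cancel_left x _).symm
          (hα.center_fixed hnc h2)
        exact ((QuotientGroup.eq_one_iff x).2 (hα.mem_center_of_fixed hQp hnc (inv_mul_eq_one.1 h3).symm)).trans rfl
    rw [hfp, hcard] at hmod
    have h8 : q ∣ 3 ^ 2 - 1 := (Nat.modEq_iff_dvd' (by norm_num)).1 hmod.symm
    exact hq2 ((Nat.prime_dvd_prime_iff_eq hα.prime Nat.prime_two).1
      (hα.prime.dvd_of_dvd_pow (n := 3) (by norm_num at h8 ⊢; exact h8)))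

end Cfsg.Agent.H91.Schmidt
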